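import Cfsg.Agent.Lib.Small.Embedding
import Mathlib.GroupTheory.SpecificGroups.Alternating.Simple
import Mathlib.Tactic

/-!
Carmichael's relations for the alternating group of degree seven.
-/

set_option autoImplicit false

namespace Cfsg.Agent.A7Recog

open Equiv Subgroup

variable {G : Type*} [Group G]

/-- Carmichael's relations: elements of order dividing three, any two with product of order dividing two. -/
structure Carm (y : ℕ → G) (n : ℕ) : Prop where
  cube : ∀ i < n, y i * y i * y i = 1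
  pair : ∀ i < n, ∀ j < n, i ≠ j → y i * y j * (y i * y j) = 1

/-- The subgroup generated by the first `n` elements. -/
def cgen (y : ℕ → G) (n : ℕ) : Subgroup G := closure (y '' {i | i < n})

theorem mem_cgen {y : ℕ → G} {n i : ℕ} (hi : i < n) : y i ∈ cgen y n :=
  subset_closure ⟨i, hi, rfl⟩

theorem Carm.swap {y : ℕ → G} {n : ℕ} (h : Carm y n) {i j : ℕ} (hi : i < n) (hj : j < n) (hij : i ≠ j) :
    y i * y j = y j * y j * (y i * y i) := by
  have h1 := h.pair i hi j hj hij
  calc y i * y j = (y i * y j)⁻¹ := eq_inv_of_mul_eq_one_left h1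
    _ = (y j)⁻¹ * (y i)⁻¹ := mul_inv_rev _ _
    _ = _ := by
      rw [inv_eq_of_mul_eq_one_left (h.cube j hj), inv_eq_of_mul_eq_one_left (h.cube i hi)]

/-- The coset representatives. -/
def rep (y : ℕ → G) (n : ℕ) : ℕ → G
  | 0 => 1
  | 1 => y n
  | 2 => y n * y n
  | i + 3 => y i * (y n * y n)

theorem step {y : ℕ → G} {n : ℕ} (h : Carm y (n + 1)) {j l : ℕ} (hj : j < n + 1) (hl : l < n + 3) :
    ∃ l' < n + 3, ∃ k ∈ cgen y n, y j * rep y n l = rep y n l' * k := by
  have hn : n < n + 1 := n.lt_succ_self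
  rcases Nat.lt_succ_iff_lt_or_eq.1 hj with hj' | hje
  · have hne : j ≠ n := hj'.ne
    match l, hl with
    | 0, _ => exact ⟨0, by omega, y j, mem_cgen hj', by simp [rep]⟩
    | 1, _ => exact ⟨2, by omega, y j * y j, mul_mem (mem_cgen hj') (mem_cgen hj'),
        by simp only [rep]; rw [h.swap hj hn hne]⟩
    | 2, _ => exact ⟨j + 3, by omega, 1, one_mem _, by simp [rep]⟩
    | i + 3, hl =>
      have hi : i < n := by omega
      have hi' : i < n + 1 := by omega
      by_cases hji : j = i
      · subst hji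
        refine ⟨1, by omega, y j, mem_cgen hj', ?_⟩
        simp only [rep]
        rw [h.swap hn hi' hne.symm, mul_assoc]
      · refine ⟨i + 3, hl, y i * y i * y j, mul_mem (mul_mem (mem_cgen hi) (mem_cgen hi)) (mem_cgen hj'), ?_⟩
        simp only [rep]
        calc y j * (y i * (y n * y n)) = y j * y i * (y n * y n) := by group
          _ = y i * y i * (y j * y j) * (y n * y n) := by rw [h.swap hj hi' hji]
          _ = y i * y i * (y j * y j * (y n * y n)) := by group
          _ = y i * y i * (y n * y j) := by rw [← h.swap hn hj hne.symm]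
          _ = y i * (y i * y n) * y j := by group
          _ = y i * (y n * y n * (y i * y i)) * y j := by rw [h.swap hi' hn hi.ne]
          _ = _ := by group
  · subst hje
    match l, hl with
    | 0, _ => exact ⟨1, by omega, 1, one_mem _, by simp [rep]⟩
    | 1, _ => exact ⟨2, by omega, 1, one_mem _, by simp [rep]⟩
    | 2, _ => exact ⟨0, by omega, 1, one_mem _, by simp [rep, ← mul_assoc, h.cube j hj]⟩
    | i + 3, hl =>
      have hi : i < j := by omega
      have hi' : i < j + 1 := by omega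
      refine ⟨i + 3, hl, y i * y i, mul_mem (mem_cgen hi) (mem_cgen hi), ?_⟩
      simp only [rep]
      calc y j * (y i * (y j * y j)) = y j * y i * (y j * y j) := by group
        _ = y i * y i * (y j * y j) * (y j * y j) := by rw [h.swap hj hi' hi.ne']
        _ = y i * y i * (y j * y j * y j) * y j := by group
        _ = y i * (y i * y j) := by rw [h.cube j hj]; group
        _ = y i * (y j * y j * (y i * y i)) := by rw [h.swap hi' hj hi.ne]
        _ = _ := by group

theorem exists_cover (y : ℕ → G) : ∀ n : ℕ, Carm y n →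
    ∃ T : Finset G, 2 * T.card ≤ (n + 2).factorial ∧ ∀ g ∈ cgen y n, g ∈ T := by
  classical
  intro n
  induction n with
  | zero =>
    intro _
    exact ⟨{1}, by simp, fun g hg => by simpa [cgen] using hg⟩
  | succ n ih =>
    intro h
    obtain ⟨T, hT, hTs⟩ := ih ⟨fun i hi => h.cube i (by omega),
      fun i hi j hj hij => h.pair i (by omega) j (by omega) hij⟩
    refine ⟨(Finset.range (n + 3)).biUnion fun l => T.image fun x => rep y n l * x, ?_, fun g hg => ?_⟩
    · have h1 := (Finset.card_biUnion_le (s := Finset.range (n + 3))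
        (t := fun l => T.image fun x => rep y n l * x)).trans
        (Finset.sum_le_card_nsmul _ _ T.card fun l _ => Finset.card_image_le)
      rw [Finset.card_range, smul_eq_mul] at h1
      rw [show n + 1 + 2 = n + 2 + 1 by omega, Nat.factorial_succ, show n + 2 + 1 = n + 3 by omega]
      calc 2 * _ ≤ 2 * ((n + 3) * T.card) := Nat.mul_le_mul_left 2 h1
        _ = (n + 3) * (2 * T.card) := by ring
        _ ≤ _ := Nat.mul_le_mul_left _ hT
    · have key : ∃ l < n + 3, ∃ k ∈ cgen y n, g = rep y n l * k := by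
        have hstep : ∀ x ∈ y '' {i | i < n + 1}, ∀ z : G, (∃ l < n + 3, ∃ k ∈ cgen y n, z = rep y n l * k) →
            ∃ l < n + 3, ∃ k ∈ cgen y n, x * z = rep y n l * k := by
          rintro _ ⟨j, hj, rfl⟩ z ⟨l, hl, k, hk, rfl⟩
          obtain ⟨l', hl', k', hk', e⟩ := step h hj hl
          exact ⟨l', hl', k' * k, mul_mem hk' hk, by rw [← mul_assoc, e, mul_assoc]⟩
        unfold cgen at hg
        induction hg using closure_induction_left with
        | one => exact ⟨0, by omega, 1, one_mem _, by simp [rep]⟩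
        | mul_left x hx z _ hz => exact hstep x hx z hz
        | inv_mul_cancel x hx z _ hz =>
          obtain ⟨i, hi, rfl⟩ := hx
          rw [inv_eq_of_mul_eq_one_left (h.cube i hi), mul_assoc]
          exact hstep _ ⟨i, hi, rfl⟩ _ (hstep _ ⟨i, hi, rfl⟩ _ hz)
      obtain ⟨l, hl, k, hk, rfl⟩ := key
      exact Finset.mem_biUnion.2 ⟨l, Finset.mem_range.2 hl, Finset.mem_image.2 ⟨k, hTs k hk, rfl⟩⟩

/-- The three-cycle `(0 1 i+2)`. -/
def cyc (i : ℕ) : Perm (Fin 7) :=
  if h : i < 5 then swap 0 ⟨i + 2, by omega⟩ * swap 0 1 else 1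

theorem cyc_facts : (∀ i < 5, cyc i * cyc i * cyc i = 1) ∧
    (∀ i < 5, ∀ j < 5, i ≠ j → cyc i * cyc j * (cyc i * cyc j) = 1) ∧ (∀ i < 5, Perm.sign (cyc i) = 1) ∧
    (cyc 0 * cyc 1 * cyc 2 * cyc 3 * cyc 4) ^ 7 = 1 ∧ cyc 0 * cyc 1 * cyc 2 * cyc 3 * cyc 4 ≠ 1 ∧
    (cyc 0 * cyc 1 * cyc 2) ^ 5 = 1 ∧ cyc 0 * cyc 1 * cyc 2 ≠ 1 ∧ cyc 0 ≠ 1 := by
  decide +kernel

theorem order_four : (cyc 0 * cyc 0 * cyc 1 * cyc 2 * cyc 3) ^ 4 = 1 ∧
    (cyc 0 * cyc 0 * cyc 1 * cyc 2 * cyc 3) ^ 2 ≠ 1 := by
  decide +kernel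

theorem card_alt_seven : Nat.card (alternatingGroup (Fin 7)) = 2520 := by
  have h := two_mul_nat_card_alternatingGroup (α := Fin 7)
  rw [Nat.card_perm, Nat.card_fin, show Nat.factorial 7 = 5040 from rfl] at h
  omega

/-- The three-cycles generate the alternating group. -/
theorem cgen_cyc : cgen cyc 5 = alternatingGroup (Fin 7) := by
  obtain ⟨c3, -, csign, h7, h7', h5, h5', h3'⟩ := cyc_facts
  haveI : IsSimpleGroup (alternatingGroup (Fin 7)) := alternatingGroup.isSimpleGroup (by simp)
  have hle : cgen cyc 5 ≤ alternatingGroup (Fin 7) := (closure_le _).2 (by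
    rintro _ ⟨i, hi, rfl⟩; exact Perm.mem_alternatingGroup.2 (csign i hi))
  have hd : ∀ g ∈ cgen cyc 5, orderOf g ∣ Nat.card (cgen cyc 5) := fun g hg => by
    have := orderOf_dvd_natCard (⟨g, hg⟩ : cgen cyc 5)
    rwa [orderOf_mk] at this
  have hm : ∀ i < 5, cyc i ∈ cgen cyc 5 := fun i hi => mem_cgen hi
  haveI := Fact.mk (by norm_num : Nat.Prime 7)
  haveI := Fact.mk (by norm_num : Nat.Prime 5)
  haveI := Fact.mk (by norm_num : Nat.Prime 3)
  have d7 := hd _ (mul_mem (mul_mem (mul_mem (mul_mem (hm 0 (by norm_num)) (hm 1 (by norm_num)))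
    (hm 2 (by norm_num))) (hm 3 (by norm_num))) (hm 4 (by norm_num)))
  rw [orderOf_eq_prime h7 h7'] at d7
  have d5 := hd _ (mul_mem (mul_mem (hm 0 (by norm_num)) (hm 1 (by norm_num))) (hm 2 (by norm_num)))
  rw [orderOf_eq_prime h5 h5'] at d5
  have d3 := hd _ (hm 0 (by norm_num))
  rw [orderOf_eq_prime (by rw [pow_three', c3 0 (by norm_num)]) h3'] at d3
  obtain ⟨h4, h4'⟩ := order_four
  have d4 := hd _ (mul_mem (mul_mem (mul_mem (mul_mem (hm 0 (by norm_num)) (hm 0 (by norm_num)))
    (hm 1 (by norm_num))) (hm 2 (by norm_num))) (hm 3 (by norm_num)))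
  rw [show orderOf (cyc 0 * cyc 0 * cyc 1 * cyc 2 * cyc 3) = 2 ^ (1 + 1) from
    orderOf_eq_prime_pow (by simpa using h4') (by simpa using h4)] at d4
  set R := (cgen cyc 5).subgroupOf (alternatingGroup (Fin 7)) with hR
  have hcard : Nat.card R = Nat.card (cgen cyc 5) := Nat.card_congr (subgroupOfEquivOfLe hle).toEquiv
  by_contra hne
  have hR1 : R ≠ ⊤ := fun e => hne (le_antisymm hle (subgroupOf_eq_top.1 e))
  have hidx := R.card_mul_index
  rw [hcard, card_alt_seven] at hidx
  have h420 : 420 ∣ Nat.card (cgen cyc 5) :=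
    (Nat.Coprime.mul_dvd_of_dvd_of_dvd (by norm_num)
      (Nat.Coprime.mul_dvd_of_dvd_of_dvd (by norm_num) (Nat.Coprime.mul_dvd_of_dvd_of_dvd (by norm_num) d7 d5) d3) d4)
  have hnc : ¬ IsMulCommutative (alternatingGroup (Fin 7)) := fun hc => by
    have hp := (inferInstance : IsSimpleGroup (alternatingGroup (Fin 7)))
    haveI := hc
    open scoped IsMulCommutative in
    have := IsSimpleGroup.prime_card (α := alternatingGroup (Fin 7))
    rw [card_alt_seven] at this
    norm_num at this
  have h2 := Small.card_two_mul_dvd_factorial hnc hR1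
  rw [card_alt_seven] at h2
  obtain ⟨c, hc⟩ := h420
  rw [hc, mul_assoc] at hidx
  have hle6 : R.index ≤ 6 := Nat.le_of_dvd (by norm_num) ⟨c, by
    rw [mul_comm]; omega⟩
  have := Nat.le_of_dvd (by positivity) (h2.trans (Nat.factorial_dvd_factorial hle6))
  norm_num [Nat.factorial] at this

/-- A group of order 2520 with five non-trivial Carmichael elements and no proper nontrivial
normal subgroup is alternating of degree seven. -/
theorem iso_of_carm [Finite G] (hG : Nat.card G = 2520) (y : ℕ → G) (h : Carm y 5) (h0 : y 0 ≠ 1) :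
    Nonempty (G ≃* alternatingGroup (Fin 7)) := by
  classical
  obtain ⟨c3, c2, -, -⟩ := cyc_facts
  set t : ℕ → Perm (Fin 7) × G := fun i => (cyc i, y i) with ht
  have htr : Carm t 5 := ⟨fun i hi => Prod.ext (c3 i hi) (h.cube i hi),
    fun i hi j hj hij => Prod.ext (c2 i hi j hj hij) (h.pair i hi j hj hij)⟩
  obtain ⟨T, hT, hTs⟩ := exists_cover t 5 htr
  have himg : (cgen t 5).map (MonoidHom.fst (Perm (Fin 7)) G) = alternatingGroup (Fin 7) := by
    rw [← cgen_cyc, cgen, MonoidHom.map_closure, cgen, Set.image_image]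
    rfl
  set π := (MonoidHom.fst (Perm (Fin 7)) G).subgroupMap (cgen t 5) with hπ
  have hle : Nat.card (cgen t 5) ≤ 2520 := by
    have h1 : Nat.card (cgen t 5) ≤ Nat.card (T : Set (Perm (Fin 7) × G)) :=
      Nat.card_mono T.finite_toSet hTs
    rw [show Nat.factorial (5 + 2) = 5040 from rfl] at hT
    rw [Nat.card_coe_set_eq, Set.ncard_coe_finset] at h1
    omega
  have hbij : Function.Bijective π := (MonoidHom.subgroupMap_surjective _ _).bijective_of_nat_card_le (by
    rw [himg, card_alt_seven]; exact hle)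
  haveI : IsSimpleGroup (alternatingGroup (Fin 7)) := alternatingGroup.isSimpleGroup (by simp)
  let e : cgen t 5 ≃* alternatingGroup (Fin 7) :=
    (MulEquiv.ofBijective π hbij).trans (MulEquiv.subgroupCongr himg)
  let φ : alternatingGroup (Fin 7) →* G :=
    ((MonoidHom.snd (Perm (Fin 7)) G).comp (cgen t 5).subtype).comp e.symm.toMonoidHom
  have hinj : Function.Injective φ := by
    rcases φ.normal_ker.eq_bot_or_eq_top with hk | hk
    · exact φ.ker_eq_bot_iff.1 hk
    · exfalso
      have h1 : φ (e ⟨t 0, mem_cgen (by norm_num)⟩) = 1 := MonoidHom.mem_ker.1 (hk ▸ mem_top _)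
      refine h0 ?_
      simpa [φ, ht] using h1
  exact ⟨(MulEquiv.ofBijective φ (hinj.bijective_of_nat_card_le (by rw [hG, card_alt_seven]))).symm⟩

end Cfsg.Agent.A7Recog
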