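import Cfsg.Agent.Lib.A7Recog.Involution

/-!
The commuting graph of the distinguished subgroups of order three.
-/

set_option autoImplicit false

namespace Cfsg.Agent.A7Recog

open Subgroup

variable {G : Type*} [Group G]

/-- Commuting distinct members. -/
def Adj (A B : Subgroup G) : Prop := Mem A ∧ Mem B ∧ A ≠ B ∧ B ≤ centralizer (A : Set G)

theorem Adj.symm {A B : Subgroup G} (h : Adj A B) : Adj B A :=
  ⟨h.2.1, h.1, h.2.2.1.symm, le_centralizer_iff.1 h.2.2.2⟩

theorem Adj.cj {A B : Subgroup G} (h : Adj A B) (g : G) : Adj (cj g A) (cj g B) :=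
  ⟨h.1.cj g, h.2.1.cj g, fun e => h.2.2.1 (cj_inj e), fun _ hx => mem_cent_cj.2 (h.2.2.2 (mem_cj.1 hx))⟩

theorem cent_of_gen {A B : Subgroup G} (hA : Nat.card A = 3) (hB : Nat.card B = 3) {a b : G} (ha : a ∈ A)
    (ha1 : a ≠ 1) (hb : b ∈ B) (hb1 : b ≠ 1) (h : a * b = b * a) : B ≤ centralizer (A : Set G) :=
  three_le hB hb hb1 (mem_centralizer_iff.2 fun x hx => by
    rcases mem_three hA ha ha1 hx with rfl | rfl | rfl
    · simp
    · exact h
    · exact ((show Commute a b from h).inv_left).eq)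

theorem cj_eq_self_of_cent {g : G} {A : Subgroup G} (h : g ∈ centralizer (A : Set G)) : cj g A = A :=
  cj_eq_iff.2 (centralizer_le_normalizer _ h)

namespace Ctx

variable [Finite G] (K : Ctx G)
include K

theorem sup_nine {A B R : Subgroup G} (hA : Nat.card A = 3) (hB : Nat.card B = 3) (hne : A ≠ B)
    (hR : Nat.card R = 9) (hAR : A ≤ R) (hBR : B ≤ R) : A ⊔ B = R := by
  refine eq_of_le_of_card_ge (sup_le hAR hBR) ?_
  have hd : Nat.card (A ⊔ B : Subgroup G) ∈ Nat.divisors 9 :=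
    Nat.mem_divisors.2 ⟨hR ▸ card_dvd_of_le (sup_le hAR hBR), by norm_num⟩
  rw [show Nat.divisors 9 = {1, 3, 9} by decide] at hd
  simp only [Finset.mem_insert, Finset.mem_singleton] at hd
  rcases hd with e | e | e
  · have := card_dvd_of_le (le_sup_left : A ≤ A ⊔ B)
    rw [hA, e] at this; norm_num at this
  · exact absurd ((eq_of_le_of_card_ge (le_sup_left : A ≤ A ⊔ B) (by rw [hA, e])).trans
      (eq_of_le_of_card_ge (le_sup_right : B ≤ A ⊔ B) (by rw [hB, e])).symm) hne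
  · rw [hR, e]

theorem adj_nine {A B : Subgroup G} (h : Adj A B) : ∃ R : Subgroup G, Nat.card R = 9 ∧ A ≤ R ∧ B ≤ R := by
  obtain ⟨b, hb, hb1, ho⟩ := exists_gen h.2.1.1
  obtain ⟨R, hR, hAR, hbR⟩ := K.exists_nine h.1 (h.2.2.2 hb)
    (by rw [show (9 : ℕ) = 3 * 3 by norm_num, pow_mul, pow_three h.2.1.1 hb, one_pow])
  exact ⟨R, hR, hAR, three_le h.2.1.1 hb hb1 hbR⟩

theorem adj_of {A B R : Subgroup G} (hA : Mem A) (hB : Mem B) (hne : A ≠ B) (hR : Nat.card R = 9)
    (hAR : A ≤ R) (hBR : B ≤ R) : Adj A B :=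
  ⟨hA, hB, hne, hBR.trans (nine_le_cent hR hAR)⟩

theorem two_only {A B C R : Subgroup G} (hR : Nat.card R = 9) (hA : Mem A) (hB : Mem B) (hC : Mem C)
    (hAR : A ≤ R) (hBR : B ≤ R) (hCR : C ≤ R) (hne : A ≠ B) : C = A ∨ C = B := by
  have hsub : ({A, B} : Set (Subgroup G)) ⊆ {W | Mem W ∧ W ≤ R} := by
    rintro W (rfl | rfl)
    exacts [⟨hA, hAR⟩, ⟨hB, hBR⟩]
  have h := Set.eq_of_subset_of_ncard_le hsub (by rw [K.two_in_nine hR, Set.ncard_pair hne])
  have hC' : C ∈ ({W | Mem W ∧ W ≤ R} : Set (Subgroup G)) := ⟨hC, hCR⟩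
  rw [← h] at hC'
  exact hC'

theorem no_tri {A B C : Subgroup G} (h1 : Adj A B) (h2 : Adj A C) (h3 : Adj B C) : False := by
  obtain ⟨R, hR, hAR, hBR⟩ := K.adj_nine h1
  have hCR : C ≤ R := fun c hc => K.self_cent hR (by
    rw [← K.sup_nine h1.1.1 h1.2.1.1 h1.2.2.1 hR hAR hBR]
    refine mem_centralizer_iff.2 fun x hx => ?_
    have hle : A ⊔ B ≤ centralizer ({c} : Set G) := sup_le
      (fun y hy => mem_centralizer_singleton_iff.2 (comm_of_le_cent (h2.2.2.2 hc) hy).symm)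
      (fun y hy => mem_centralizer_singleton_iff.2 (comm_of_le_cent (h3.2.2.2 hc) hy).symm)
    exact mem_centralizer_singleton_iff.1 (hle hx))
  rcases K.two_only hR h1.1 h1.2.1 h2.2.1 hAR hBR hCR h1.2.2.1 with e | e
  · exact h2.2.2.1 e.symm
  · exact h3.2.2.1 e.symm

theorem le_one {Z Z' B C : Subgroup G} (h1 : Adj Z B) (h2 : Adj Z C) (h1' : Adj Z' B) (h2' : Adj Z' C)
    (hne : B ≠ C) : Z' = Z := by
  obtain ⟨b, hb, hb1, -⟩ := exists_gen h1.2.1.1
  obtain ⟨c, hc, hc1, -⟩ := exists_gen h2.2.1.1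
  have hcom : b * c * b⁻¹ * c⁻¹ ≠ 1 := fun e => by
    have h : b * c = c * b := by
      calc b * c = (b * c * b⁻¹ * c⁻¹) * (c * b) := by group
        _ = _ := by rw [e, one_mul]
    exact K.no_tri h1 h2 ⟨h1.2.1, h2.2.1, hne, cent_of_gen h1.2.1.1 h2.2.1.1 hb hb1 hc hc1 h⟩
  have hmem := K.tt_comm h1.1 (h1.2.2.2 hb) (h2.2.2.2 hc)
  refine eq_of_le_of_card_ge (fun z hz => K.only h1.1 hmem hcom (pow_three h1'.1.1 hz) ?_) (by rw [h1.1.1, h1'.1.1])
  have e1 : Commute b z := comm_of_le_cent (h1'.2.2.2 hb) hz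
  have e2 : Commute c z := comm_of_le_cent (h2'.2.2.2 hc) hz
  exact (((e1.mul_left e2).mul_left e1.inv_left).mul_left e2.inv_left).eq

theorem tt_no_norm {A X : Subgroup G} (h : Adj A X) {v : G} (hv : v ∈ tt A) (hv1 : v ≠ 1) :
    v ∉ normalizer (X : Set G) := by
  intro hN
  obtain ⟨x, hx, hx1, -⟩ := exists_gen h.2.1.1
  have hm := K.tt_comm h.1 (K.tt_le h.1 hv) (h.2.2.2 hx)
  have hX : v * x * v⁻¹ * x⁻¹ ∈ X := mul_mem ((mem_normalizer_iff.1 hN x).1 hx) (inv_mem hx)
  have h1 : v * x * v⁻¹ * x⁻¹ = 1 := by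
    simpa using pow_gcd_eq_one.2 ⟨pow_three h.2.1.1 hX, K.tt_pow h.1 hm⟩
  have hc : v * x = x * v := by
    calc v * x = (v * x * v⁻¹ * x⁻¹) * (x * v) := by group
      _ = _ := by rw [h1, one_mul]
  exact h.2.2.1 (three_eq h.1.1 h.2.1.1 (K.only h.1 hv hv1 (pow_three h.2.1.1 hx) hc) hx1 hx)

theorem exists_adj {A R : Subgroup G} (hA : Mem A) (hR : Nat.card R = 9) (hAR : A ≤ R) :
    ∃ B, Adj A B ∧ B ≤ R := by
  by_contra hno
  push Not at hno
  have hsub : ({W | Mem W ∧ W ≤ R} : Set (Subgroup G)) ⊆ {A} := fun W hW => by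
    by_contra hne
    exact hno W (K.adj_of hA hW.1 (Ne.symm hne) hR hAR hW.2) hW.2
  have := Set.ncard_le_ncard hsub
  rw [K.two_in_nine hR, Set.ncard_singleton] at this
  norm_num at this

theorem four_le_adj {A : Subgroup G} (hA : Mem A) :
    4 ≤ ({B | Adj A B} : Set (Subgroup G)).ncard := by
  rw [← (K.fours hA).1]
  choose f hf hfR using fun R : ({R | Nat.card R = 9 ∧ A ≤ R} : Set (Subgroup G)) =>
    K.exists_adj hA R.2.1 R.2.2
  rw [← Nat.card_coe_set_eq, ← Nat.card_coe_set_eq]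
  refine Nat.card_le_card_of_injective (fun R => ⟨f R, hf R⟩) fun R R' e => Subtype.ext ?_
  have e' : f R = f R' := congrArg Subtype.val e
  by_contra hne
  have h := K.meet_eq hA.1 R.2.1 R'.2.1 hne R.2.2 R'.2.2
  exact (hf R).2.2.1 (eq_of_le_of_card_ge (h ▸ le_inf (hfR R) (e' ▸ hfR R') : f R ≤ A)
    (by rw [hA.1, (hf R).2.1.1])).symm

/-- Few members are far from a given one. -/
theorem far_le {B : Subgroup G} (hB : Mem B) :
    ({Y | Mem Y ∧ Y ≠ B ∧ ¬ Adj B Y ∧ ¬ ∃ Z, Adj Z B ∧ Adj Z Y} : Set (Subgroup G)).ncard ≤ 18 := by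
  classical
  haveI : Fintype (Subgroup G) := Fintype.ofFinite _
  let nb : Subgroup G → Finset (Subgroup G) := fun A => Finset.univ.filter (Adj A)
  have hnb : ∀ A C, C ∈ nb A ↔ Adj A C := fun A C => by simp [nb]
  have h4 : ∀ A, Mem A → 4 ≤ (nb A).card := fun A hA => by
    have := K.four_le_adj hA
    rwa [show ({C | Adj A C} : Set (Subgroup G)) = ↑(nb A) by ext C; simp [nb], Set.ncard_coe_finset] at this
  let L2 : Finset (Subgroup G) := (nb B).biUnion fun A => (nb A).erase B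
  have hL2 : 12 ≤ L2.card := by
    rw [Finset.card_biUnion]
    · have h3 : ∀ A ∈ nb B, 3 ≤ ((nb A).erase B).card := fun A hA => by
        rw [Finset.card_erase_of_mem ((hnb _ _).2 ((hnb _ _).1 hA).symm)]
        have := h4 A ((hnb _ _).1 hA).2.1
        omega
      have hh := Finset.card_nsmul_le_sum (nb B) _ 3 h3
      have := h4 B hB
      rw [smul_eq_mul] at hh
      omega
    · intro A hA A' hA' hne
      rw [Function.onFun, Finset.disjoint_left]
      intro C hC hC'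
      rw [Finset.mem_erase, hnb] at hC hC'
      exact hne (K.le_one ((hnb _ _).1 hA').symm hC'.2 ((hnb _ _).1 hA).symm hC.2 (Ne.symm hC.1))
  let ball : Finset (Subgroup G) := insert B (nb B ∪ L2)
  have hball : 17 ≤ ball.card := by
    have hd : Disjoint (nb B) L2 := Finset.disjoint_left.2 fun C hC hC' => by
      obtain ⟨A, hA, hCA⟩ := Finset.mem_biUnion.1 hC'
      rw [Finset.mem_erase, hnb] at hCA
      exact K.no_tri ((hnb _ _).1 hA) ((hnb _ _).1 hC) hCA.2
    have hBn : B ∉ nb B ∪ L2 := by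
      rw [Finset.mem_union, hnb]
      rintro (h | h)
      · exact h.2.2.1 rfl
      · obtain ⟨A, -, hA⟩ := Finset.mem_biUnion.1 h
        exact (Finset.mem_erase.1 hA).1 rfl
    rw [Finset.card_insert_of_notMem hBn, Finset.card_union_of_disjoint hd]
    have := h4 B hB
    omega
  have hsub : ball ⊆ Finset.univ.filter fun W : Subgroup G => Mem W := by
    intro C hC
    rw [Finset.mem_filter]
    refine ⟨Finset.mem_univ _, ?_⟩
    simp only [ball, L2, Finset.mem_insert, Finset.mem_union, Finset.mem_biUnion, Finset.mem_erase, hnb] at hC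
    rcases hC with rfl | h | ⟨A, -, -, h⟩
    exacts [hB, h.2.1, h.2.1]
  have hfar : ({Y | Mem Y ∧ Y ≠ B ∧ ¬ Adj B Y ∧ ¬ ∃ Z, Adj Z B ∧ Adj Z Y} : Set (Subgroup G)) ⊆
      ↑((Finset.univ.filter fun W : Subgroup G => Mem W) \ ball) := by
    rintro Y ⟨hY, hne, hna, hnc⟩
    simp only [ball, L2, Finset.coe_sdiff, Set.mem_diff, Finset.mem_coe, Finset.mem_filter, Finset.mem_univ,
      true_and, Finset.mem_insert, Finset.mem_union, Finset.mem_biUnion, Finset.mem_erase, hnb]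
    refine ⟨hY, ?_⟩
    rintro (h | h | ⟨A, hA, -, h⟩)
    exacts [hne h, hna h, hnc ⟨A, hA.symm, h⟩]
  refine (Set.ncard_le_ncard hfar (Finset.finite_toSet _)).trans ?_
  rw [Set.ncard_coe_finset, Finset.card_sdiff_of_subset hsub]
  have hM : (Finset.univ.filter fun W : Subgroup G => Mem W).card = 35 := by
    rw [← K.mem_count, ← Set.ncard_coe_finset]
    congr 1
    ext W
    simp
  omega

theorem three_cent {W : Subgroup G} (hW : Mem W) {k : G} (hk : k ∈ normalizer (W : Set G)) (hk3 : k ^ 3 = 1) :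
    k ∈ centralizer (W : Set G) := by
  have hidx : ((centralizer (W : Set G)).subgroupOf (normalizer (W : Set G))).index = 2 := by
    have h := card_mul_relIndex (centralizer_le_normalizer (W : Set G))
    rw [(K.cards hW).1, (K.cards hW).2] at h
    rw [← relIndex]
    omega
  have h1 := pow_mem (mem_subgroupOf.1 (mul_self_mem_of_index_two hidx ⟨k, hk⟩)) 2
  rwa [show ((⟨k, hk⟩ * ⟨k, hk⟩ : normalizer (W : Set G)) : G) = k ^ 2 from (pow_two k).symm,
    ← pow_mul, show 2 * 2 = 3 + 1 by norm_num, pow_succ, hk3, one_mul] at h1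

/-- The existence of a common neighbour. -/
theorem has_common {A B X : Subgroup G} (hXA : Adj X A) (hXB : Adj X B) (hAB : A ≠ B) {v : G}
    (hv : v ∈ tt A) (hv1 : v ≠ 1) :
    cj v B ≠ B ∧ ∃ Z, Adj Z B ∧ Adj Z (cj v B) := by
  classical
  have hA := hXA.2.1
  have hB := hXB.2.1
  have hv2 := K.tt_sq hA hv
  have hvi : v⁻¹ = v := inv_eq_of_mul_eq_one_left hv2
  have hvA : cj v A = A := cj_eq_self_of_cent (K.tt_le hA hv)
  have hfix : ∀ g : G, cj g A = A → cj g B = B → g ∈ normalizer (X : Set G) := fun g h1 h2 =>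
    cj_eq_iff.1 (K.le_one hXA hXB (h1 ▸ hXA.cj g) (h2 ▸ hXB.cj g) hAB)
  have hYB : cj v B ≠ B := fun e => K.tt_no_norm hXA.symm hv hv1 (hfix v hvA e)
  refine ⟨hYB, ?_⟩
  set Y := cj v B with hYdef
  have hY : Mem Y := hB.cj v
  have hBY : cj v Y = B := by rw [hYdef, cj_mul, hv2, cj_one]
  obtain ⟨b, hb, hb1, -⟩ := exists_gen hB.1
  have hy : v * b * v ∈ Y := mem_cj.2 (by
    rw [hvi, show v * (v * b * v) * v = (v * v) * b * (v * v) by group, hv2, one_mul, mul_one]; exact hb)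
  have hy1 : v * b * v ≠ 1 := fun e => hb1 (by
    calc b = (v * v) * b * (v * v) := by rw [hv2, one_mul, mul_one]
      _ = v * (v * b * v) * v := by group
      _ = 1 := by rw [e, mul_one, hv2])
  have hnc : ¬ Adj B Y := by
    intro h
    have hcy : Commute (v * b * v) b := comm_of_le_cent (h.2.2.2 hy) hb
    set q := b * (v * b * v) with hq
    have hq3 : q ^ 3 = 1 := by
      rw [hq, hcy.symm.mul_pow, pow_three hB.1 hb, pow_three hY.1 hy, one_mul]
    have hvq : v * q = q * v := by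
      calc v * q = (v * b * v) * b * v := by rw [hq]; group
        _ = q * v := by rw [hq, hcy.eq]
    have hqA : q ∈ A := K.only hA hv hv1 hq3 hvq
    by_cases hq1 : q = 1
    · exact hYB (three_eq hY.1 hB.1 hy hy1 (by rw [eq_inv_of_mul_eq_one_right hq1]; exact inv_mem hb))
    · have hbq : Commute b q := (Commute.refl b).mul_right hcy.symm
      exact K.no_tri hXA hXB ⟨hA, hB, hAB, cent_of_gen hA.1 hB.1 hqA hq1 hb hb1 hbq.symm.eq⟩
  by_contra hno
  set L0 := normalizer (B : Set G) ⊓ normalizer (Y : Set G) with hL0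
  -- no element of order three
  have h3 : ¬ 3 ∣ Nat.card L0 := by
    intro hd
    haveI := Fact.mk Nat.prime_three
    obtain ⟨⟨k, hkB, hkY⟩, hk⟩ := exists_prime_orderOf_dvd_card' (G := L0) 3 hd
    have hko : orderOf k = 3 := (orderOf_injective L0.subtype Subtype.coe_injective ⟨k, hkB, hkY⟩).trans hk
    have hk1 : k ≠ 1 := fun e => by rw [e, orderOf_one] at hko; norm_num at hko
    have hk3 : k ^ 3 = 1 := by rw [← hko]; exact pow_orderOf_eq_one k
    have hk9 : k ^ 9 = 1 := by rw [show (9 : ℕ) = 3 * 3 by norm_num, pow_mul, hk3, one_pow]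
    have hcB := K.three_cent hB hkB hk3
    have hcY := K.three_cent hY hkY hk3
    have hkB' : k ∉ B := fun h => hnc (Adj.symm ⟨hY, hB, hYB, three_le hB.1 h hk1 hcY⟩)
    have hkY' : k ∉ Y := fun h => hnc ⟨hB, hY, hYB.symm, three_le hY.1 h hk1 hcB⟩
    obtain ⟨R, hR, hBR, hkR⟩ := K.exists_nine hB hcB hk9
    obtain ⟨R', hR', hYR, hkR'⟩ := K.exists_nine hY hcY hk9
    have hne : R ≠ R' := fun e => hnc (K.adj_of hB hY hYB.symm hR hBR (e ▸ hYR))
    have hZ : Mem (zpowers k) :=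
      ⟨zpowers_card_three hko, R, R', hR, hR', hne, zpowers_le.2 hkR, zpowers_le.2 hkR'⟩
    exact hno ⟨zpowers k, Adj.symm ⟨hB, hZ, fun e => hkB' (e ▸ mem_zpowers k), zpowers_le.2 hcB⟩,
      Adj.symm ⟨hY, hZ, fun e => hkY' (e ▸ mem_zpowers k), zpowers_le.2 hcY⟩⟩
  -- the orbit of `Y` is far from `B`
  have h72 := (K.cards hB).2
  have hidx : (normalizer (Y : Set G)).relIndex (normalizer (B : Set G)) ≤ 18 := by
    set N := normalizer (B : Set G) with hN
    let Φ : N ⧸ (normalizer (Y : Set G)).subgroupOf N →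
        ({W | Mem W ∧ W ≠ B ∧ ¬ Adj B W ∧ ¬ ∃ Z, Adj Z B ∧ Adj Z W} : Set (Subgroup G)) := Quotient.lift
      (fun n : N => ⟨cj (n : G) Y, by
        have hn : cj (n : G) B = B := cj_eq_iff.2 n.2
        have hn' : cj (n : G)⁻¹ B = B := cj_eq_iff.2 (inv_mem n.2)
        have hback : cj (n : G)⁻¹ (cj (n : G) Y) = Y := by rw [cj_mul, inv_mul_cancel, cj_one]
        exact ⟨hY.cj _, fun e => hYB (cj_inj (e.trans hn.symm)),
          fun h => hnc (hn' ▸ hback ▸ h.cj (n : G)⁻¹),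
          fun ⟨Z, h1, h2⟩ => hno ⟨cj (n : G)⁻¹ Z, hn' ▸ h1.cj _, hback ▸ h2.cj _⟩⟩⟩)
      (fun a c hab => by
        have h1 := mem_subgroupOf.1 (QuotientGroup.leftRel_apply.1 hab)
        simp only [Subgroup.coe_mul, Subgroup.coe_inv] at h1
        refine Subtype.ext ?_
        show cj (a : G) Y = cj (c : G) Y
        rw [show (c : G) = a * ((a : G)⁻¹ * c) by group, ← cj_mul, cj_eq_iff.2 h1])
    have hΦ : Function.Injective Φ := by
      rintro ⟨a⟩ ⟨c⟩ e
      have e' : cj (a : G) Y = cj (c : G) Y := congrArg Subtype.val e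
      refine QuotientGroup.eq.2 (mem_subgroupOf.2 (cj_eq_iff.1 ?_))
      simp only [Subgroup.coe_mul, Subgroup.coe_inv]
      rw [← cj_mul, ← e', cj_mul, inv_mul_cancel, cj_one]
    rw [relIndex, index]
    exact ((Nat.card_le_card_of_injective Φ hΦ).trans_eq (Nat.card_coe_set_eq _)).trans (K.far_le hB)
  have hL0c : Nat.card L0 * (normalizer (Y : Set G)).relIndex (normalizer (B : Set G)) = 72 := by
    have := card_mul_relIndex (inf_le_left : L0 ≤ normalizer (B : Set G))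
    rwa [inf_relIndex_left, h72] at this
  have hL0m : Nat.card L0 = 4 ∨ Nat.card L0 = 8 := by
    have hm : Nat.card L0 ∈ Nat.divisors 72 := Nat.mem_divisors.2 ⟨⟨_, hL0c.symm⟩, by norm_num⟩
    have key : ∀ d ∈ Nat.divisors 72, ¬ 3 ∣ d → 4 ≤ d → d = 4 ∨ d = 8 := by decide +kernel
    refine key _ hm h3 ?_
    by_contra hlt
    have := Nat.mul_le_mul (show Nat.card L0 ≤ 3 by omega) hidx
    omega
  set L := L0 ⊓ centralizer (B : Set G) with hL
  have hLc : Nat.card L * (centralizer (B : Set G)).relIndex L0 = Nat.card L0 := by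
    have := card_mul_relIndex (inf_le_left : L ≤ L0)
    rwa [inf_relIndex_left] at this
  have hL2 : 2 ≤ Nat.card L := by
    have h := relIndex_le_of_le_right (H := centralizer (B : Set G)) (inf_le_left : L0 ≤ normalizer (B : Set G))
      (fun e => by
        have := card_mul_relIndex (centralizer_le_normalizer (B : Set G))
        rw [e, mul_zero] at this
        exact Nat.card_pos.ne' this.symm)
    have h2 : (centralizer (B : Set G)).relIndex (normalizer (B : Set G)) = 2 := by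
      have := card_mul_relIndex (centralizer_le_normalizer (B : Set G))
      rw [(K.cards hB).1, h72] at this
      omega
    rw [h2] at h
    replace h : (centralizer (B : Set G)).relIndex L0 ≤ 2 := h
    by_contra hlt
    have := Nat.card_pos (α := L)
    rw [show Nat.card L = 1 by omega, one_mul] at hLc
    omega
  have hL4 : Nat.card L ∣ 4 := by
    have h8 : Nat.card L ∣ 8 :=
      (card_dvd_of_le (inf_le_left : L ≤ L0)).trans (by rcases hL0m with e | e <;> rw [e] <;> norm_num)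
    have h36 : Nat.card L ∣ 36 := (K.cards hB).1 ▸ card_dvd_of_le (inf_le_right : L ≤ centralizer (B : Set G))
    exact (Nat.dvd_gcd h8 h36).trans (by norm_num)
  have hLT : L ≤ tt B := fun x hx => by
    refine (K.tt_spec hB).2.2 x hx.2 ?_
    obtain ⟨m, hm⟩ := hL4
    have h1 : x ^ Nat.card L = 1 := congrArg Subtype.val (pow_card_eq_one' (x := (⟨x, hx⟩ : L)))
    rw [hm, pow_mul, h1, one_pow]
  have hnormY : ∀ x ∈ tt B, x ≠ 1 → x ∈ normalizer (Y : Set G) → x * (v * b * v) * x⁻¹ = (v * b * v)⁻¹ := by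
    intro x hx hx1 hxN
    rcases mem_three hY.1 hy hy1 ((mem_normalizer_iff.1 hxN _).1 hy) with e | e | e
    · exact absurd (conj_eq_one_iff.1 e) hy1
    · exact absurd (three_eq hY.1 hB.1 hy hy1 (K.only hB hx hx1 (pow_three hY.1 hy) (mul_inv_eq_iff_eq_mul.1 e))) hYB
    · exact e
  have hLcard : Nat.card L = 2 := by
    have hm : Nat.card L ∈ Nat.divisors 4 := Nat.mem_divisors.2 ⟨hL4, by norm_num⟩
    rw [show Nat.divisors 4 = {1, 2, 4} by decide] at hm
    simp only [Finset.mem_insert, Finset.mem_singleton] at hm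
    rcases hm with e | e | e
    · omega
    · exact e
    exfalso
    have hLeq : L = tt B := eq_of_le_of_card_ge hLT (by rw [e, (K.tt_spec hB).2.1])
    have hin : ∀ x ∈ tt B, x ∈ normalizer (Y : Set G) := fun x hx => (hLeq ▸ hx : x ∈ L).1.2
    haveI : Fintype (tt B) := Fintype.ofFinite _
    obtain ⟨x₁, hx₁⟩ : ∃ x : tt B, x ≠ 1 := Fintype.exists_ne_of_one_lt_card (by
      rw [← Nat.card_eq_fintype_card, (K.tt_spec hB).2.1]; norm_num) 1
    obtain ⟨x₂, hx₂⟩ : ∃ x : tt B, x ∉ ({1, x₁} : Finset (tt B)) := by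
      by_contra hall
      push Not at hall
      have h := Finset.card_le_card (s := (Finset.univ : Finset (tt B))) (fun d _ => hall d)
      rw [Finset.card_univ, ← Nat.card_eq_fintype_card, (K.tt_spec hB).2.1] at h
      have := h.trans Finset.card_le_two
      norm_num at this
    simp only [Finset.mem_insert, Finset.mem_singleton, not_or] at hx₂
    have h1 := hnormY _ x₁.2 (fun e => hx₁ (Subtype.ext e)) (hin _ x₁.2)
    have h2 := hnormY _ x₂.2 (fun e => hx₂.1 (Subtype.ext e)) (hin _ x₂.2)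
    have hx12 : (x₁ : G) * x₂ ≠ 1 := fun e => hx₂.2 (Subtype.ext (by
      calc (x₂ : G) = (x₁ : G) * x₁ * x₂ := by rw [K.tt_sq hB x₁.2, one_mul]
        _ = _ := by rw [mul_assoc, e, mul_one]))
    have h12 := hnormY _ (mul_mem x₁.2 x₂.2) hx12 (hin _ (mul_mem x₁.2 x₂.2))
    rw [show (x₁ : G) * x₂ * (v * b * v) * ((x₁ : G) * x₂)⁻¹ = x₁ * (x₂ * (v * b * v) * (x₂ : G)⁻¹) * (x₁ : G)⁻¹ by
      group, h2, ← conj_inv, h1, inv_inv] at h12
    have h22 : (v * b * v) ^ 2 = 1 := (pow_two _).trans (mul_eq_one_iff_eq_inv.2 h12)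
    exact hy1 (by simpa using pow_gcd_eq_one.2 ⟨h22, pow_three hY.1 hy⟩)
  obtain ⟨t, htL, ht1⟩ : ∃ t ∈ L, t ≠ (1 : G) := by
    by_contra hall
    push Not at hall
    have : L = ⊥ := (eq_bot_iff_forall L).2 hall
    rw [this, card_bot] at hLcard
    norm_num at hLcard
  have htB : t ∈ tt B := hLT htL
  have ht2 := K.tt_sq hB htB
  have hti : t⁻¹ = t := inv_eq_of_mul_eq_one_left ht2
  have hLuniq : ∀ x ∈ L, x = 1 ∨ x = t := by
    intro x hx
    by_contra hne
    push Not at hne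
    haveI : Fintype L := Fintype.ofFinite _
    have h := Finset.card_le_univ ({1, ⟨t, htL⟩, ⟨x, hx⟩} : Finset L)
    rw [Finset.card_insert_of_notMem, Finset.card_pair, ← Nat.card_eq_fintype_card, hLcard] at h
    · norm_num at h
    · exact fun e => hne.2 (congrArg Subtype.val e).symm
    · simp only [Finset.mem_insert, Finset.mem_singleton, Subtype.ext_iff, not_or]
      exact ⟨Ne.symm ht1, Ne.symm hne.1⟩
  set t' := v * t * v with ht'
  have hcjt : ∀ H : Subgroup G, cj t' H = cj v (cj t (cj v H)) := fun H => by rw [cj_mul, cj_mul, ht', mul_assoc]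
  have ht'L0 : t' ∈ L0 :=
    ⟨cj_eq_iff.1 (by rw [hcjt, ← hYdef, cj_eq_iff.2 htL.1.2, hBY]),
      cj_eq_iff.1 (by rw [hcjt, hBY, cj_eq_iff.2 htL.1.1])⟩
  have ht'Y : t' ∈ tt Y := by
    rw [hYdef, ← tt_cj]
    exact mem_cj.2 (by
      rw [ht', hvi, show v * (v * t * v) * v = (v * v) * t * (v * v) by group, hv2, one_mul, mul_one]; exact htB)
  have htt' : t' * t = t * t' := by
    have h : t' * t * t'⁻¹ ∈ L :=
      ⟨L0.mul_mem (L0.mul_mem ht'L0 htL.1) (L0.inv_mem ht'L0), K.tt_le hB (tt_conj ht'L0.1 htB)⟩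
    rcases hLuniq _ h with e | e
    · exact absurd (conj_eq_one_iff.1 e) ht1
    · exact mul_inv_eq_iff_eq_mul.1 e
  obtain ⟨s, hs⟩ : ∃ s, s = t * t' := ⟨_, rfl⟩
  have hs1 : s ≠ 1 := fun e => by
    have : t' = t := (eq_inv_of_mul_eq_one_right (hs ▸ e)).trans hti
    exact hYB (K.uniq hB hY htB (this ▸ ht'Y) ht1)
  obtain ⟨c, hc⟩ : ∃ c, c = t * v := ⟨_, rfl⟩
  have hcs : c * c = s := by rw [hc, hs, ht']; group
  have hts : t * s = s * t := by rw [hs, mul_assoc, htt']
  have hvs : v * s = s * v := by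
    calc v * s = (v * t * v) * t * v := by rw [hs, ht']; group
      _ = s * v := by rw [← ht', htt', ← hs]
  have hs2 : s * s = 1 := by
    calc s * s = t * (t' * t) * t' := by rw [hs]; group
      _ = (t * t) * (t' * t') := by rw [htt']; group
      _ = 1 := by rw [ht2, K.tt_sq hY ht'Y, one_mul]
  have hc4 : c ^ 4 = 1 := by rw [show (4 : ℕ) = 2 * 2 by norm_num, pow_mul, pow_two, pow_two, hcs, hs2]
  have hoc : orderOf c = 4 := by
    haveI := Fact.mk Nat.prime_two
    exact orderOf_eq_prime_pow (p := 2) (n := 1) (by rw [pow_one, pow_two, hcs]; exact hs1) hc4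
  obtain ⟨S, hS, hcS⟩ := K.exists_eight (T := zpowers c) (by rw [Nat.card_zpowers, hoc])
  obtain ⟨W, hW, hWS⟩ : ∃ W, Mem W ∧ tt W ≤ S := by
    obtain ⟨S0, hS0, hT0⟩ := K.exists_eight (K.tt_spec hA).2.1
    obtain ⟨g, hg⟩ := K.eight_conj hS0 hS
    exact ⟨cj g A, hA.cj g, by rw [← tt_cj, ← hg]; exact cj_mono hT0⟩
  have hsW : s ∈ tt W := by
    have hi : ((tt W).subgroupOf S).index = 2 := by
      have := ((tt W).subgroupOf S).card_mul_index
      rw [Nat.card_congr (subgroupOfEquivOfLe hWS).toEquiv, (K.tt_spec hW).2.1, hS] at this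
      omega
    rw [← hcs]
    exact mem_subgroupOf.1 (mul_self_mem_of_index_two hi ⟨c, hcS (mem_zpowers c)⟩)
  have htW : t ∈ normalizer (W : Set G) := K.cv hW hsW hs1 (mem_centralizer_singleton_iff.2 hts)
  have hvW : v ∈ normalizer (W : Set G) := K.cv hW hsW hs1 (mem_centralizer_singleton_iff.2 hvs)
  obtain ⟨w, hw, hw1, -⟩ := exists_gen hW.1
  have hcase : ∀ x : G, x ∈ normalizer (W : Set G) → x * w * x⁻¹ = w ∨ x * w * x⁻¹ = w⁻¹ := fun x hx => by
    rcases mem_three hW.1 hw hw1 ((mem_normalizer_iff.1 hx w).1 hw) with e | e | e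
    · exact absurd (conj_eq_one_iff.1 e) hw1
    · exact Or.inl e
    · exact Or.inr e
  rcases hcase t htW with e1 | e1
  · -- `W = B`
    have hWB : W = B := three_eq hW.1 hB.1 hw hw1 (K.only hB htB ht1 (pow_three hW.1 hw) (mul_inv_eq_iff_eq_mul.1 e1))
    have h1 : Commute t b := comm_of_le_cent (K.tt_le hB htB) hb
    have h2 : Commute s b := comm_of_le_cent (K.tt_le hB (hWB ▸ hsW)) hb
    have e3 : t' = t * s := by rw [hs, ← mul_assoc, ht2, one_mul]
    have ht'1 : t' ≠ 1 := fun e => ht1 (by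
      calc t = (v * v) * t * (v * v) := by rw [hv2, one_mul, mul_one]
        _ = v * t' * v := by rw [ht']; group
        _ = 1 := by rw [e, mul_one, hv2])
    exact hYB (three_eq hY.1 hB.1 (K.only hY ht'Y ht'1 (pow_three hB.1 hb) (by rw [e3]; exact h1.mul_left h2)) hb1 hb)
  rcases hcase v hvW with e2 | e2
  · -- `W = A`
    have hWA : W = A := three_eq hW.1 hA.1 hw hw1 (K.only hA hv hv1 (pow_three hW.1 hw) (mul_inv_eq_iff_eq_mul.1 e2))
    have hsA : s ∈ tt A := hWA ▸ hsW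
    refine K.tt_no_norm hXA.symm hsA hs1 (hfix s (cj_eq_self_of_cent (K.tt_le hA hsA)) (cj_eq_iff.2 ?_))
    rw [hs]
    exact mul_mem htL.1.1 ht'L0.1
  · -- `c` centralises `W`
    have h : c * w * c⁻¹ = w := by
      calc c * w * c⁻¹ = t * (v * w * v⁻¹) * t⁻¹ := by rw [hc]; group
        _ = (t * w * t⁻¹)⁻¹ := by rw [e2]; group
        _ = w := by rw [e1, inv_inv]
    have hcW : c ∈ centralizer (W : Set G) := mem_centralizer_iff.2 fun x hx => by
      rcases mem_three hW.1 hw hw1 hx with rfl | rfl | rfl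
      · simp
      · exact (mul_inv_eq_iff_eq_mul.1 h).symm
      · exact ((show Commute w c from (mul_inv_eq_iff_eq_mul.1 h).symm).inv_left).eq
    exact hs1 (hcs ▸ K.tt_sq hW ((K.tt_spec hW).2.2 c hcW hc4))

/-- The product relation for a conjugate. -/
theorem pair_conj {A B X : Subgroup G} (hXA : Adj X A) (hXB : Adj X B) (hAB : A ≠ B) {v b : G}
    (hv : v ∈ tt A) (hv1 : v ≠ 1) (hb : b ∈ B) (hb1 : b ≠ 1) : b * (v * b * v) * (b * (v * b * v)) = 1 := by
  classical
  have hA := hXA.2.1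
  have hB := hXB.2.1
  have hv2 := K.tt_sq hA hv
  have hvi : v⁻¹ = v := inv_eq_of_mul_eq_one_left hv2
  obtain ⟨hYB, Z, hZB, hZY⟩ := K.has_common hXA hXB hAB hv hv1
  set Y := cj v B with hYdef
  have hZ := hZB.1
  have hBY : cj v Y = B := by rw [hYdef, cj_mul, hv2, cj_one]
  have hvZ : cj v Z = Z := K.le_one hZB hZY (hBY ▸ hZY.cj v) (hZB.cj v) hYB.symm
  obtain ⟨z, hz, hz1, -⟩ := exists_gen hZ.1
  have hvz : v * z * v⁻¹ = z⁻¹ := by
    rcases mem_three hZ.1 hz hz1 ((mem_normalizer_iff.1 (cj_eq_iff.1 hvZ) z).1 hz) with e | e | e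
    · exact absurd (conj_eq_one_iff.1 e) hz1
    · exfalso
      have hzA := K.only hA hv hv1 (pow_three hZ.1 hz) (mul_inv_eq_iff_eq_mul.1 e)
      exact K.no_tri hXA hXB (three_eq hZ.1 hA.1 hz hz1 hzA ▸ hZB)
    · exact e
  obtain ⟨R, hR, hZR, hBR⟩ := K.adj_nine hZB
  obtain ⟨R', hR', hZR', hYR'⟩ := K.adj_nine hZY
  obtain ⟨u, hu, huR⟩ : ∃ u ∈ tt Z, cj u R = R' := by
    let F : tt Z → ({S | Nat.card S = 9 ∧ Z ≤ S} : Set (Subgroup G)) := fun u =>
      ⟨cj (u : G) R, (card_cj _ _).trans hR,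
        (cj_eq_self_of_cent (K.tt_le hZ u.2)).symm.le.trans (cj_mono hZR)⟩
    have hF : Function.Injective F := fun u u' e => by
      have e' : cj (u : G) R = cj (u' : G) R := congrArg Subtype.val e
      have h1 : (u' : G)⁻¹ * u ∈ normalizer (R : Set G) :=
        cj_eq_iff.1 (by rw [← cj_mul, e', cj_mul, inv_mul_cancel, cj_one])
      have hT : (u' : G)⁻¹ * u ∈ tt Z := mul_mem (inv_mem u'.2) u.2
      have h2 := K.self_normal hZ hR hZR (K.tt_le hZ hT) h1
      have h9 := congrArg Subtype.val (pow_card_eq_one' (x := (⟨_, h2⟩ : R)))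
      rw [hR] at h9
      have h3 : (u' : G)⁻¹ * u = 1 := by simpa using pow_gcd_eq_one.2 ⟨K.tt_pow hZ hT, h9⟩
      exact Subtype.ext (inv_mul_eq_one.1 h3).symm
    have hsurj : Function.Surjective F := (hF.bijective_of_nat_card_le (by
      rw [Nat.card_coe_set_eq, (K.fours hZ).1, (K.tt_spec hZ).2.1])).2
    obtain ⟨u, hu⟩ := hsurj ⟨R', hR', hZR'⟩
    exact ⟨u, u.2, congrArg Subtype.val hu⟩
  have hu2 := K.tt_sq hZ hu
  have hui : u⁻¹ = u := inv_eq_of_mul_eq_one_left hu2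
  have huZ : cj u Z = Z := cj_eq_self_of_cent (K.tt_le hZ hu)
  have huB : cj u B = Y := by
    rcases K.two_only hR' hZ hZY.2.1 (hB.cj u) hZR' hYR' (huR ▸ cj_mono hBR) hZY.2.2.1 with e | e
    · exact absurd (cj_inj (e.trans huZ.symm)) (Ne.symm hZB.2.2.1)
    · exact e
  have hy : v * b * v ∈ Y := mem_cj.2 (by
    rw [hvi, show v * (v * b * v) * v = (v * v) * b * (v * v) by group, hv2, one_mul, mul_one]; exact hb)
  have hub : u * b * u⁻¹ ∈ Y := huB ▸ mem_cj.2 (by
    rw [show u⁻¹ * (u * b * u⁻¹) * u = b by group]; exact hb)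
  rcases mem_three hZY.2.1.1 hub (fun e => hb1 (conj_eq_one_iff.1 e)) hy with e | e | e
  · exfalso
    refine hb1 ?_
    calc b = (v * v) * b * (v * v) := by rw [hv2, one_mul, mul_one]
      _ = v * (v * b * v) * v := by group
      _ = 1 := by rw [e, mul_one, hv2]
  · exfalso
    set q := u * v with hq
    have hqb : q * b * q⁻¹ = b := by
      calc q * b * q⁻¹ = u * (v * b * v⁻¹) * u⁻¹ := by rw [hq]; group
        _ = u * (v * b * v) * u⁻¹ := by rw [hvi]
        _ = u * (u * b * u⁻¹) * u⁻¹ := by rw [e]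
        _ = (u * u) * b * (u * u)⁻¹ := by group
        _ = b := by rw [hu2, one_mul, inv_one, mul_one]
    have huz : Commute u z := comm_of_le_cent (K.tt_le hZ hu) hz
    have hqz : q * z * q⁻¹ = z⁻¹ := by
      calc q * z * q⁻¹ = u * (v * z * v⁻¹) * u⁻¹ := by rw [hq]; group
        _ = _ := by rw [hvz, huz.inv_right.eq, mul_inv_cancel_right]
    have hqB : q ∈ centralizer (B : Set G) := mem_centralizer_iff.2 fun x hx => by
      rcases mem_three hB.1 hb hb1 hx with rfl | rfl | rfl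
      · simp
      · exact (mul_inv_eq_iff_eq_mul.1 hqb).symm
      · exact ((show Commute b q from (mul_inv_eq_iff_eq_mul.1 hqb).symm).inv_left).eq
    have hm := K.tt_comm hB hqB (hZB.symm.2.2.2 hz)
    rw [hqz] at hm
    have h3 := pow_three hZ.1 hz
    have h4 : z⁻¹ * z⁻¹ = z := by
      calc z⁻¹ * z⁻¹ = z⁻¹ * z⁻¹ * z ^ 3 := by rw [h3, mul_one]
        _ = z := by group
    rw [h4] at hm
    exact hz1 (by simpa using pow_gcd_eq_one.2 ⟨h3, K.tt_pow hB hm⟩)
  · have hm := K.tt_comm hZ (hZB.2.2.2 hb) (K.tt_le hZ hu)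
    have h1 : b * (v * b * v) = (b * u * b⁻¹ * u⁻¹) := by rw [e]; group
    rw [h1]
    exact K.tt_sq hZ hm

end Ctx

end Cfsg.Agent.A7Recog
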