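import Cfsg.Agent.Lib.A7Recog.Member

/-!
The involutions attached to the distinguished subgroups of order three, and the count of these subgroups.
-/

set_option autoImplicit false

namespace Cfsg.Agent.A7Recog

open Subgroup

variable {G : Type*} [Group G]

namespace Ctx

variable [Finite G] (K : Ctx G)
include K

theorem nine_not {v : G} (hv : v * v = 1) (hv1 : v ≠ 1) : ¬ 9 ∣ Nat.card (centralizer ({v} : Set G)) := by
  intro hd
  haveI := Fact.mk Nat.prime_three
  obtain ⟨S, hS⟩ := Sylow.exists_subgroup_card_pow_prime (G := centralizer ({v} : Set G)) 3 (n := 2) hd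
  set R := S.map (centralizer ({v} : Set G)).subtype with hR
  have hR9 : Nat.card R = 9 := by rw [hR, card_map_of_injective Subtype.coe_injective, hS]; norm_num
  have hvR : v ∈ R := K.self_cent hR9 (mem_centralizer_iff.2 fun r hr =>
    mem_centralizer_singleton_iff.1 ((map_subtype_le _) hr))
  have h9 := congrArg Subtype.val (pow_card_eq_one' (x := (⟨v, hvR⟩ : R)))
  rw [hR9] at h9
  have h2 : v ^ 2 = 1 := (pow_two v).trans hv
  exact hv1 (by simpa using pow_gcd_eq_one.2 ⟨h2, h9⟩)

theorem cv {W : Subgroup G} (hW : Mem W) {v : G} (hv : v ∈ tt W) (hv1 : v ≠ 1) :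
    centralizer ({v} : Set G) ≤ normalizer (W : Set G) := by
  classical
  set D := centralizer ({v} : Set G) with hD
  set N := normalizer (W : Set G) with hN
  have hv2 := K.tt_sq hW hv
  have hN72 := (K.cards hW).2
  -- the orbit has at most three elements
  have hrel : D.relIndex N ≤ 3 := by
    let Φ : N ⧸ D.subgroupOf N → {t : tt W // t ≠ 1} := Quotient.lift
      (fun n : N => ⟨⟨n * v * (n : G)⁻¹, tt_conj n.2 hv⟩, fun e => hv1 (conj_eq_one_iff.1 (congrArg Subtype.val e))⟩)
      (fun a b hab => by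
        have h1 := mem_centralizer_singleton_iff.1 (mem_subgroupOf.1 (QuotientGroup.leftRel_apply.1 hab))
        simp only [Subgroup.coe_mul, Subgroup.coe_inv] at h1
        refine Subtype.ext (Subtype.ext ?_)
        show (a : G) * v * (a : G)⁻¹ = (b : G) * v * (b : G)⁻¹
        calc (a : G) * v * (a : G)⁻¹ = (a : G) * (v * ((a : G)⁻¹ * b)) * (b : G)⁻¹ := by group
          _ = _ := by rw [← h1]; group)
    have hΦ : Function.Injective Φ := by
      rintro ⟨a⟩ ⟨b⟩ e
      have e' : (a : G) * v * (a : G)⁻¹ = (b : G) * v * (b : G)⁻¹ :=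
        congrArg Subtype.val (congrArg Subtype.val e)
      refine QuotientGroup.eq.2 (mem_subgroupOf.2 (mem_centralizer_singleton_iff.2 ?_))
      simp only [Subgroup.coe_mul, Subgroup.coe_inv]
      calc (a : G)⁻¹ * b * v = (a : G)⁻¹ * (b * v * (b : G)⁻¹) * b := by group
        _ = _ := by rw [← e']; group
    have h := Nat.card_le_card_of_injective Φ hΦ
    haveI : Fintype (tt W) := Fintype.ofFinite _
    rw [Nat.card_eq_fintype_card (α := {t : tt W // t ≠ 1}), Fintype.card_subtype_compl, Fintype.card_subtype_eq,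
      ← Nat.card_eq_fintype_card, (K.tt_spec hW).2.1] at h
    rw [relIndex, index]
    omega
  have h9 := K.nine_not hv2 hv1
  set M := D ⊓ N with hM
  have hMN : Nat.card M * D.relIndex N = 72 := by
    have := card_mul_relIndex (inf_le_right : M ≤ N)
    rwa [inf_relIndex_right, hN72] at this
  have hM9 : ¬ 9 ∣ Nat.card M := fun h => h9 (h.trans (card_dvd_of_le inf_le_left))
  have hM24 : Nat.card M = 24 := by
    have h3 : D.relIndex N = 1 ∨ D.relIndex N = 2 ∨ D.relIndex N = 3 := by
      have : D.relIndex N ≠ 0 := fun e => by rw [e, mul_zero] at hMN; norm_num at hMN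
      omega
    rcases h3 with e | e | e <;> rw [e] at hMN
    · exact absurd ⟨8, by omega⟩ hM9
    · exact absurd ⟨4, by omega⟩ hM9
    · omega
  have h24 : 24 ∣ Nat.card D := hM24 ▸ card_dvd_of_le inf_le_left
  have h7 : ¬ 7 ∣ Nat.card D := fun hd => by
    haveI := Fact.mk (by norm_num : Nat.Prime 7)
    obtain ⟨x, hx⟩ := exists_prime_orderOf_dvd_card' (G := D) 7 hd
    exact K.cent7 (by rw [orderOf_coe]; exact hx) (mem_centralizer_singleton_iff.1 x.2).symm
      (Or.inl (orderOf_eq_prime (by rw [pow_two]; exact hv2) hv1))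
  have key : ∀ d ∈ Nat.divisors 2520, 24 ∣ d → ¬ 9 ∣ d → ¬ 7 ∣ d → d ≤ 315 → d = 24 ∨ d = 120 := by
    decide +kernel
  rcases key _ (Nat.mem_divisors.2 ⟨K.card ▸ card_subgroup_dvd_card D, by norm_num⟩) h24 h9 h7
    (K.card_le (K.cent_ne_top hv1)) with e | e
  · exact inf_eq_left.1 (eq_of_le_of_card_ge inf_le_left (show Nat.card D ≤ Nat.card M by rw [hM24, e]))
  exfalso
  haveI := Fact.mk Nat.prime_three
  have hWD : W ≤ D := fun w hw => mem_centralizer_singleton_iff.2 (comm_of_le_cent (K.tt_le hW hv) hw).symm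
  have hWc : Nat.card (W.subgroupOf D) = 3 := by rw [Nat.card_congr (subgroupOfEquivOfLe hWD).toEquiv, hW.1]
  obtain ⟨P, hP⟩ := (IsPGroup.of_card (p := 3) (n := 1) (G := W.subgroupOf D) hWc).exists_le_sylow
  have hP3 : Nat.card (P : Subgroup D) = 3 := by
    rw [P.card_eq_multiplicity, e, Nat.factorization_def _ Nat.prime_three,
      show (120 : ℕ) = 3 ^ 1 * 40 by norm_num, padicValNat.mul (by norm_num) (by norm_num),
      padicValNat.prime_pow, padicValNat.eq_zero_of_not_dvd (by norm_num : ¬ 3 ∣ 40)]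
    norm_num
  have hPW : W.subgroupOf D = (P : Subgroup D) := eq_of_le_of_card_ge hP (by rw [hP3, hWc])
  have hNP : normalizer ((P : Subgroup D) : Set D) = M.subgroupOf D := by
    rw [← hPW]
    ext x
    rw [mem_normalizer_iff, mem_subgroupOf, hM, Subgroup.mem_inf, hN, mem_normalizer_iff]
    simp only [mem_subgroupOf, Subgroup.coe_mul, Subgroup.coe_inv, SetLike.coe_mem, true_and]
    refine ⟨fun h y => ?_, fun h y => h y⟩
    constructor
    · intro hy
      exact (h ⟨y, hWD hy⟩).1 hy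
    · intro hy
      have hyD : y ∈ D := by
        have h1 := mul_mem (mul_mem (inv_mem x.2) (hWD hy)) x.2
        rwa [show (x : G)⁻¹ * (x * y * (x : G)⁻¹) * x = y by group] at h1
      exact (h ⟨y, hyD⟩).2 hy
  have h1 := card_sylow_modEq_one 3 D
  rw [P.card_eq_index_normalizer] at h1
  replace h1 : (normalizer ((P : Subgroup D) : Set D)).index ≡ 1 [MOD 3] := h1
  rw [hNP] at h1
  have h2 := (M.subgroupOf D).card_mul_index
  rw [Nat.card_congr (subgroupOfEquivOfLe (inf_le_left : M ≤ D)).toEquiv, hM24, e] at h2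
  rw [show (M.subgroupOf D).index = 5 by omega] at h1
  exact absurd h1 (by unfold Nat.ModEq; norm_num)

theorem only {W : Subgroup G} (hW : Mem W) {v : G} (hv : v ∈ tt W) (hv1 : v ≠ 1) {a : G} (ha : a ^ 3 = 1)
    (hva : v * a = a * v) : a ∈ W := by
  have haN : a ∈ normalizer (W : Set G) := K.cv hW hv hv1 (mem_centralizer_singleton_iff.2 hva.symm)
  have hidx : ((centralizer (W : Set G)).subgroupOf (normalizer (W : Set G))).index = 2 := by
    have h := card_mul_relIndex (centralizer_le_normalizer (W : Set G))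
    rw [(K.cards hW).1, (K.cards hW).2] at h
    rw [← relIndex]
    omega
  have hsq := mem_subgroupOf.1 (mul_self_mem_of_index_two hidx ⟨a, haN⟩)
  have haC : a ∈ centralizer (W : Set G) := by
    have h1 := pow_mem hsq 2
    rwa [show ((⟨a, haN⟩ * ⟨a, haN⟩ : normalizer (W : Set G)) : G) = a ^ 2 from (pow_two a).symm,
      ← pow_mul, show 2 * 2 = 3 + 1 by norm_num, pow_succ, ha, one_mul] at h1
  by_contra haW
  exact hv1 (K.tt_fpf hW haC (by rw [show (9 : ℕ) = 3 * 3 by norm_num, pow_mul, ha, one_pow]) haW hv hva)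

omit K in
theorem pow_three {W : Subgroup G} (hW : Nat.card W = 3) {w : G} (hw : w ∈ W) : w ^ 3 = 1 := by
  have := congrArg Subtype.val (pow_card_eq_one' (x := (⟨w, hw⟩ : W)))
  rwa [hW] at this

theorem uniq {W W' : Subgroup G} (hW : Mem W) (hW' : Mem W') {v : G} (hv : v ∈ tt W) (hv' : v ∈ tt W')
    (hv1 : v ≠ 1) : W' = W :=
  eq_of_le_of_card_ge (fun w hw => K.only hW hv hv1 (pow_three hW'.1 hw) (comm_of_le_cent (K.tt_le hW' hv') hw))
    (by rw [hW.1, hW'.1])

theorem sylow_eight {S : Subgroup G} (hS : Nat.card S = 8) : ∃ P : Sylow 2 G, (P : Subgroup G) = S := by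
  haveI := Fact.mk Nat.prime_two
  obtain ⟨P, hP⟩ := (IsPGroup.of_card (p := 2) (n := 3) (G := S) hS).exists_le_sylow
  refine ⟨P, (eq_of_le_of_card_ge hP ?_).symm⟩
  rw [K.sylow_card P 3 (by norm_num) (by norm_num), hS]
  norm_num

theorem exists_eight {T : Subgroup G} (hT : Nat.card T = 4) : ∃ S : Subgroup G, Nat.card S = 8 ∧ T ≤ S := by
  haveI := Fact.mk Nat.prime_two
  obtain ⟨P, hP⟩ := (IsPGroup.of_card (p := 2) (n := 2) (G := T) hT).exists_le_sylow
  exact ⟨P, (K.sylow_card P 3 (by norm_num) (by norm_num)).trans (by norm_num), hP⟩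

theorem eight_conj {S S' : Subgroup G} (hS : Nat.card S = 8) (hS' : Nat.card S' = 8) : ∃ g, cj g S = S' := by
  haveI := Fact.mk Nat.prime_two
  obtain ⟨P, rfl⟩ := K.sylow_eight hS
  obtain ⟨Q, rfl⟩ := K.sylow_eight hS'
  obtain ⟨g, hg⟩ := MulAction.exists_smul_eq G P Q
  exact ⟨g, by rw [← hg, Sylow.coe_subgroup_smul]; rfl⟩

theorem conj_mem {W W' : Subgroup G} (hW : Mem W) (hW' : Mem W') : ∃ g, cj g W = W' := by
  obtain ⟨S, hS, hTS⟩ := K.exists_eight (K.tt_spec hW).2.1
  obtain ⟨S', hS', hTS'⟩ := K.exists_eight (K.tt_spec hW').2.1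
  obtain ⟨g, rfl⟩ := K.eight_conj hS hS'
  refine ⟨g, ?_⟩
  set A := tt (cj g W) with hA
  set B := tt W' with hB
  have hA4 : Nat.card A = 4 := (K.tt_spec (hW.cj g)).2.1
  have hB4 : Nat.card B = 4 := (K.tt_spec hW').2.1
  have hAS : A ≤ cj g S := by rw [hA, ← tt_cj]; exact cj_mono hTS
  have hne : A ⊓ B ≠ ⊥ := fun e => by
    have hinj : Function.Injective fun p : A × B => (⟨(p.1 : G) * p.2, mul_mem (hAS p.1.2) (hTS' p.2.2)⟩ : cj g S) := by
      rintro ⟨a, b⟩ ⟨a', b'⟩ h
      have h' : (a : G) * b = a' * b' := congrArg Subtype.val h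
      have h1 : (a' : G)⁻¹ * a = b' * (b : G)⁻¹ := by
        calc (a' : G)⁻¹ * a = (a' : G)⁻¹ * (a * b) * (b : G)⁻¹ := by group
          _ = _ := by rw [h']; group
      have h2 : (a' : G)⁻¹ * a ∈ A ⊓ B := ⟨A.mul_mem (A.inv_mem a'.2) a.2, h1 ▸ B.mul_mem b'.2 (B.inv_mem b.2)⟩
      rw [e, Subgroup.mem_bot] at h2
      rw [h2] at h1
      exact Prod.ext (Subtype.ext (inv_mul_eq_one.1 h2).symm) (Subtype.ext (mul_inv_eq_one.1 h1.symm).symm)
    have := Nat.card_le_card_of_injective _ hinj
    rw [Nat.card_prod, hA4, hB4, hS'] at this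
    norm_num at this
  obtain ⟨⟨v, hv⟩, hv1⟩ := (ne_bot_iff_exists_ne_one.1 hne)
  exact (K.uniq (hW.cj g) hW' hv.1 hv.2 fun e => hv1 (Subtype.ext e)).symm

theorem exists_mem : ∃ W : Subgroup G, Mem W := by
  haveI := Fact.mk Nat.prime_three
  obtain ⟨P⟩ := (inferInstance : Nonempty (Sylow 3 G))
  obtain ⟨W, -, hW⟩ := K.mem_in_nine (K.sylow_nine P)
  exact ⟨W, hW⟩

theorem mem_count : ({W | Mem W} : Set (Subgroup G)).ncard = 35 := by
  classical
  obtain ⟨W, hW⟩ := K.exists_mem
  set N := normalizer (W : Set G) with hN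
  have h : Nat.card (G ⧸ N) = Nat.card ({W | Mem W} : Set (Subgroup G)) := by
    refine Nat.card_eq_of_bijective (Quotient.lift
      (fun g => (⟨cj g W, hW.cj g⟩ : ({W | Mem W} : Set (Subgroup G)))) fun a b hab => ?_) ⟨?_, ?_⟩
    · have h1 : a⁻¹ * b ∈ N := QuotientGroup.leftRel_apply.1 hab
      refine Subtype.ext ?_
      show cj a W = cj b W
      rw [show b = a * (a⁻¹ * b) by group, ← cj_mul, cj_eq_iff.2 h1]
    · rintro ⟨a⟩ ⟨b⟩ e
      have e' : cj a W = cj b W := congrArg Subtype.val e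
      refine QuotientGroup.eq.2 (cj_eq_iff.1 ?_)
      rw [← cj_mul, ← e', cj_mul, inv_mul_cancel, cj_one]
    · rintro ⟨W', hW'⟩
      obtain ⟨g, hg⟩ := K.conj_mem hW hW'
      exact ⟨QuotientGroup.mk g, Subtype.ext hg⟩
  have h2 := N.card_mul_index
  rw [(K.cards hW).2, K.card] at h2
  rw [← Nat.card_coe_set_eq, ← h]
  show N.index = 35
  omega

/-- Each Sylow subgroup contains two of the distinguished subgroups. -/
theorem two_in_nine {R : Subgroup G} (hR : Nat.card R = 9) :
    ({W | Mem W ∧ W ≤ R} : Set (Subgroup G)).ncard = 2 := by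
  classical
  haveI : Fintype (Subgroup G) := Fintype.ofFinite _
  let P : Finset (Subgroup G) := Finset.univ.filter fun R => Nat.card R = 9
  let M : Finset (Subgroup G) := Finset.univ.filter fun W => Mem W
  let c : Subgroup G → ℕ := fun R => (M.filter (· ≤ R)).card
  have hc : ∀ R' ∈ P, c R' = c R := by
    intro R' hR'
    obtain ⟨g, rfl⟩ := K.nine_conj hR (Finset.mem_filter.1 hR').2
    refine (Finset.card_bij (fun W _ => cj g W) ?_ (fun a _ b _ h => cj_inj h) ?_).symm
    · intro W hW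
      simp only [M, Finset.mem_filter, Finset.mem_univ, true_and] at hW ⊢
      exact ⟨hW.1.cj g, cj_mono hW.2⟩
    · intro W hW
      simp only [M, Finset.mem_filter, Finset.mem_univ, true_and] at hW
      refine ⟨cj g⁻¹ W, ?_, by rw [cj_mul, mul_inv_cancel, cj_one]⟩
      simp only [M, Finset.mem_filter, Finset.mem_univ, true_and]
      refine ⟨hW.1.cj _, ?_⟩
      have := cj_mono (g := g⁻¹) hW.2
      rwa [cj_mul, inv_mul_cancel, cj_one] at this
  have hP : P.card = 70 := by
    haveI := Fact.mk Nat.prime_three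
    have hinj : Function.Injective fun Q : Sylow 3 G => (Q : Subgroup G) := fun a b h => Sylow.ext h
    rw [← K.sylow_count, ← Set.ncard_univ, ← Set.ncard_image_of_injective _ hinj, ← Set.ncard_coe_finset]
    congr 1
    ext R'
    simp only [P, Finset.coe_filter, Finset.mem_univ, true_and, Set.mem_setOf_eq, Set.image_univ, Set.mem_range]
    exact ⟨fun h => (K.nine_sylow h), fun ⟨Q, hQ⟩ => hQ ▸ K.sylow_nine Q⟩
  have hM : M.card = 35 := by
    rw [← K.mem_count, ← Set.ncard_coe_finset]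
    congr 1
    ext W
    simp [M]
  have hfour : ∀ W ∈ M, (P.filter (W ≤ ·)).card = 4 := by
    intro W hW
    rw [← (K.fours (Finset.mem_filter.1 hW).2).1, ← Set.ncard_coe_finset]
    congr 1
    ext R'
    simp [P]
  have hdc := Finset.sum_card_bipartiteAbove_eq_sum_card_bipartiteBelow (s := M) (t := P)
    (fun W R' : Subgroup G => W ≤ R')
  simp only [Finset.bipartiteAbove, Finset.bipartiteBelow] at hdc
  rw [Finset.sum_const_nat hfour, Finset.sum_const_nat hc, hM, hP] at hdc
  have hcR : c R = 2 := by omega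
  rw [← hcR]
  show _ = (M.filter (· ≤ R)).card
  rw [← Set.ncard_coe_finset]
  congr 1
  ext W
  simp [M]

end Ctx

end Cfsg.Agent.A7Recog
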