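import Cfsg.Agent.Lib.A7Recog.Three

/-!
Distinguished subgroups of order three in a simple group of order 2520: those in two Sylow subgroups.
-/

set_option autoImplicit false

namespace Cfsg.Agent.A7Recog

open Subgroup

variable {G : Type*} [Group G]

/-- A subgroup of order three lying in two Sylow subgroups. -/
def Mem (W : Subgroup G) : Prop :=
  Nat.card W = 3 ∧ ∃ R R' : Subgroup G, Nat.card R = 9 ∧ Nat.card R' = 9 ∧ R ≠ R' ∧ W ≤ R ∧ W ≤ R'

/-- The elements of exponent four in the centraliser. -/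
def tt (W : Subgroup G) : Subgroup G := closure {h | h ∈ centralizer (W : Set G) ∧ h ^ 4 = 1}

theorem Mem.card_eq {W : Subgroup G} (h : Mem W) : Nat.card W = 3 := h.1

theorem mem_cent_cj {g x : G} {W : Subgroup G} :
    x ∈ centralizer (cj g W : Set G) ↔ g⁻¹ * x * g ∈ centralizer (W : Set G) := by
  constructor
  · intro h
    refine mem_centralizer_iff.2 fun w hw => ?_
    have h1 := mem_centralizer_iff.1 h (g * w * g⁻¹) (mem_cj.2 (by simpa [mul_assoc] using hw))
    calc w * (g⁻¹ * x * g) = g⁻¹ * (g * w * g⁻¹ * x) * g := by group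
      _ = _ := by rw [h1]; group
  · intro h
    refine mem_centralizer_iff.2 fun z hz => ?_
    have h1 := mem_centralizer_iff.1 h _ (mem_cj.1 hz)
    calc z * x = g * ((g⁻¹ * z * g) * (g⁻¹ * x * g)) * g⁻¹ := by group
      _ = _ := by rw [h1]; group

theorem Mem.cj {W : Subgroup G} (h : Mem W) (g : G) : Mem (cj g W) := by
  obtain ⟨h3, R, R', hR, hR', hne, hW, hW'⟩ := h
  exact ⟨(card_cj g W).trans h3, A7Recog.cj g R, A7Recog.cj g R', (card_cj g R).trans hR, (card_cj g R').trans hR',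
    fun e => hne (cj_inj e), cj_mono hW, cj_mono hW'⟩

theorem tt_cj_le (g : G) (W : Subgroup G) : cj g (tt W) ≤ tt (cj g W) := by
  rw [cj, tt, MonoidHom.map_closure, closure_le]
  rintro _ ⟨h, ⟨hc, h4⟩, rfl⟩
  refine subset_closure ⟨mem_cent_cj.2 (by simpa [mul_assoc] using hc), ?_⟩
  rw [← map_pow, h4, map_one]

theorem tt_cj (g : G) (W : Subgroup G) : cj g (tt W) = tt (cj g W) := by
  refine le_antisymm (tt_cj_le g W) ?_
  have h := tt_cj_le g⁻¹ (cj g W)
  rw [cj_mul, inv_mul_cancel, cj_one] at h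
  intro x hx
  exact mem_cj.2 (h (mem_cj.2 (by simpa [mul_assoc] using hx)))

theorem tt_norm {g : G} {W : Subgroup G} (h : g ∈ normalizer (W : Set G)) : g ∈ normalizer (tt W : Set G) :=
  cj_eq_iff.1 (by rw [tt_cj, cj_eq_iff.2 h])

theorem tt_conj {g t : G} {W : Subgroup G} (h : g ∈ normalizer (W : Set G)) (ht : t ∈ tt W) :
    g * t * g⁻¹ ∈ tt W := (mem_normalizer_iff.1 (tt_norm h) t).1 ht

namespace Ctx

variable [Finite G] (K : Ctx G)
include K

theorem cent_ne {W : Subgroup G} (hW : Nat.card W = 3) : centralizer (W : Set G) ≠ ⊤ := fun e => by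
  obtain ⟨w, hw, hw1, -⟩ := exists_gen hW
  exact K.cent_ne_top hw1 (top_unique fun x _ =>
    mem_centralizer_singleton_iff.2 (comm_of_le_cent (e ▸ mem_top x) hw))

/-- A subgroup with two Sylow subgroups for the prime three. -/
theorem two_sylows {C R R' : Subgroup G} (hR : Nat.card R = 9) (hR' : Nat.card R' = 9) (hne : R ≠ R')
    (h : R ≤ C) (h' : R' ≤ C) :
    ∃ n, n ∣ Nat.card C / 9 ∧ n % 3 = 1 ∧ 1 < n := by
  haveI := Fact.mk Nat.prime_three
  have hmax : ∀ P : Sylow 3 C, Nat.card (P : Subgroup C) ≤ 9 := fun P => by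
    obtain ⟨j, hj⟩ := P.isPGroup'.exists_card_eq
    have h1 : 3 ^ j ∣ 2520 :=
      hj ▸ K.card ▸ (card_subgroup_dvd_card (P : Subgroup C)).trans (card_subgroup_dvd_card C)
    rw [hj]
    by_contra hlt
    have h3 : 3 ≤ j := by
      by_contra hj3
      have := Nat.pow_le_pow_right (show 0 < 3 by norm_num) (show j ≤ 2 by omega)
      omega
    have := (pow_dvd_pow 3 h3).trans h1
    norm_num at this
  have hex : ∀ S : Subgroup G, Nat.card S = 9 → S ≤ C → ∃ P : Sylow 3 C, (P : Subgroup C) = S.subgroupOf C := by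
    intro S hS hSC
    have hc : Nat.card (S.subgroupOf C) = 9 := by rw [Nat.card_congr (subgroupOfEquivOfLe hSC).toEquiv, hS]
    obtain ⟨P, hP⟩ := (IsPGroup.of_card (p := 3) (n := 2) (G := S.subgroupOf C) hc).exists_le_sylow
    exact ⟨P, (eq_of_le_of_card_ge hP (by rw [hc]; exact hmax P)).symm⟩
  obtain ⟨P, hP⟩ := hex R hR h
  obtain ⟨P', hP'⟩ := hex R' hR' h'
  refine ⟨Nat.card (Sylow 3 C), ?_, card_sylow_modEq_one 3 C, ?_⟩
  · have h1 := P.card_dvd_index
    have h2 := (P : Subgroup C).card_mul_index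
    rw [hP, Nat.card_congr (subgroupOfEquivOfLe h).toEquiv, hR] at h2
    rw [hP] at h1
    rwa [← h2, Nat.mul_div_cancel_left _ (by norm_num)]
  · refine Finite.one_lt_card_iff_nontrivial.2 ⟨P, P', fun e => hne ?_⟩
    rw [e, hP'] at hP
    have h1 := subgroupOf_inj.1 hP
    rw [inf_eq_left.2 h', inf_eq_left.2 h] at h1
    exact h1.symm

theorem inverter {W : Subgroup G} (hW : Mem W) :
    ∃ g ∈ normalizer (W : Set G), ∀ w ∈ W, g * w * g⁻¹ = w⁻¹ := by
  obtain ⟨-, R, -, hR, -, -, hWR, -⟩ := hW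
  obtain ⟨g, -, hg⟩ := K.exists_invert hR
  refine ⟨g, cj_eq_iff.1 (card_le_eq ?_ (card_cj g W).ge), fun w hw => hg w (hWR hw)⟩
  intro x hx
  have h := mem_cj.1 hx
  have := hg _ (hWR h)
  rw [show g * (g⁻¹ * x * g) * g⁻¹ = x by group] at this
  exact this ▸ inv_mem h

theorem inverter_not {W : Subgroup G} (hW : Mem W) {g : G} (hg : ∀ w ∈ W, g * w * g⁻¹ = w⁻¹) :
    g ∉ centralizer (W : Set G) := fun hc => by
  obtain ⟨w, hw, hw1, ho⟩ := exists_gen hW.1
  have h2 : w * w = 1 := by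
    have h := hg w hw
    rw [comm_of_le_cent hc hw, mul_inv_cancel_right] at h
    exact mul_eq_one_iff_eq_inv.2 h
  have := orderOf_dvd_of_pow_eq_one ((pow_two w).trans h2)
  rw [ho] at this
  norm_num at this

theorem cards {W : Subgroup G} (hW : Mem W) :
    Nat.card (centralizer (W : Set G)) = 36 ∧ Nat.card (normalizer (W : Set G)) = 72 := by
  haveI := Fact.mk Nat.prime_three
  obtain ⟨g, hgN, hg⟩ := K.inverter hW
  have hgC := K.inverter_not hW hg
  obtain ⟨h3, R, R', hR, hR', hne, hWR, hWR'⟩ := hW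
  set C := centralizer (W : Set G) with hC
  set N := normalizer (W : Set G) with hN
  have hRC : R ≤ C := nine_le_cent hR hWR
  have hRC' : R' ≤ C := nine_le_cent hR' hWR'
  have hCd : Nat.card C ∣ 2520 := K.card ▸ card_subgroup_dvd_card C
  have h9 : 9 ∣ Nat.card C := hR ▸ card_dvd_of_le hRC
  have h7 : ¬ 7 ∣ Nat.card C := fun hd => by
    haveI := Fact.mk (by norm_num : Nat.Prime 7)
    obtain ⟨x, hx⟩ := exists_prime_orderOf_dvd_card' (G := C) 7 hd
    obtain ⟨w, hw, -, ho⟩ := exists_gen h3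
    exact K.cent7 (by rw [orderOf_coe]; exact hx) (comm_of_le_cent x.2 hw).symm (Or.inr ho)
  obtain ⟨n, hn, hn1, hn2⟩ := K.two_sylows hR hR' hne hRC hRC'
  have hmem : Nat.card C ∈ Nat.divisors 2520 := Nat.mem_divisors.2 ⟨hCd, by norm_num⟩
  have key : ∀ d ∈ Nat.divisors 2520, 9 ∣ d → ¬ 7 ∣ d → d ≤ 315 →
      ∀ m ∈ Nat.divisors (d / 9), m % 3 = 1 → 1 < m → d = 36 ∨ d = 72 ∨ d = 90 ∨ d = 180 := by
    decide +kernel
  have hk := key _ hmem h9 h7 (K.card_le (K.cent_ne h3)) n
    (Nat.mem_divisors.2 ⟨hn, by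
      obtain ⟨c, hc⟩ := h9
      have := Nat.card_pos (α := C)
      omega⟩) hn1 hn2
  have hr := relIndex_dvd_mulAut W
  haveI : IsCyclic W := isCyclic_of_prime_card h3
  rw [IsCyclic.card_mulAut, h3, Nat.totient_prime (by norm_num)] at hr
  have hr2 : C.relIndex N = 2 := by
    rcases (Nat.dvd_prime Nat.prime_two).1 hr with e | e
    · exact absurd (relIndex_eq_one.1 e hgN) hgC
    · exact e
  have hCc : Nat.card C * 2 = Nat.card N := hr2 ▸ card_mul_relIndex (centralizer_le_normalizer _)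
  rcases hk with e | e | e | e
  · exact ⟨e, by rw [← hCc, e]⟩
  · exfalso
    have := K.card ▸ card_subgroup_dvd_card N
    rw [← hCc, e] at this
    norm_num at this
  · exfalso
    haveI := Fact.mk Nat.prime_two
    obtain ⟨P⟩ := (inferInstance : Nonempty (Sylow 2 C))
    have hP : Nat.card (P : Subgroup C) = 2 := by
      rw [P.card_eq_multiplicity, e, Nat.factorization_def _ Nat.prime_two,
        show (90 : ℕ) = 2 ^ 1 * 45 by norm_num, padicValNat.mul (by norm_num) (by norm_num),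
        padicValNat.prime_pow, padicValNat.eq_zero_of_not_dvd (by norm_num : ¬ 2 ∣ 45)]
      norm_num
    haveI : IsCyclic (P : Subgroup C) := isCyclic_of_prime_card hP
    have hmin : (Nat.card C).minFac = 2 := (Nat.minFac_eq_two_iff _).2 (by rw [e]; norm_num)
    have hNC := IsCyclic.normalizer_le_centralizer hmin (P := P) inferInstance
    have hK := MonoidHom.ker_transferSylow_isComplement' P hNC
    have hKc := hK.card_mul
    rw [hP, e] at hKc
    set L := (MonoidHom.transferSylow P hNC).ker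
    have hLi : L.index = 2 := by
      have := L.card_mul_index
      rw [e, show Nat.card L = 45 by omega] at this
      omega
    set M := L.map C.subtype with hM
    have hMc : Nat.card M = 45 := by
      rw [hM, card_map_of_injective Subtype.coe_injective]
      omega
    have hin : ∀ S : Subgroup G, Nat.card S = 9 → S ≤ C → S ≤ M := by
      intro S hS hSC r hr
      have h9r : r ^ 9 = 1 := by
        have := congrArg Subtype.val (pow_card_eq_one' (x := (⟨r, hr⟩ : S)))
        rwa [hS] at this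
      refine ⟨⟨r, hSC hr⟩, ?_, rfl⟩
      have h1 : (⟨r, hSC hr⟩ : C) = (⟨r, hSC hr⟩ * ⟨r, hSC hr⟩) ^ 5 := Subtype.ext (by
        show r = (r * r) ^ 5
        rw [← pow_two, ← pow_mul, show 2 * 5 = 9 + 1 by norm_num, pow_succ, h9r, one_mul])
      rw [h1]
      exact pow_mem (mul_self_mem_of_index_two hLi _) 5
    obtain ⟨m, hm, hm1, hm2⟩ := K.two_sylows hR hR' hne (hin R hR hRC) (hin R' hR' hRC')
    rw [hMc] at hm
    have hm' : m ∈ Nat.divisors 5 := Nat.mem_divisors.2 ⟨hm, by norm_num⟩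
    rw [show Nat.divisors 5 = {1, 5} by decide] at hm'
    simp only [Finset.mem_insert, Finset.mem_singleton] at hm'
    omega
  · exfalso
    have h1 := N.card_mul_index
    rw [← hCc, e, K.card] at h1
    exact K.no7 N (by omega)

theorem w_le_of_le {W R : Subgroup G} (hW : Nat.card W = 3) (hR : Nat.card R = 9)
    (h : R ≤ centralizer (W : Set G)) : W ≤ R := by
  haveI := Fact.mk Nat.prime_three
  refine K.le_of_normalizes hR (IsPGroup.of_card (n := 1) (by rw [hW, pow_one])) fun w hw => ?_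
  exact centralizer_le_normalizer _ (mem_centralizer_iff.2 fun r hr => comm_of_le_cent (h hr) hw)

theorem meet_eq {W R R' : Subgroup G} (hW : Nat.card W = 3) (hR : Nat.card R = 9) (hR' : Nat.card R' = 9)
    (hne : R ≠ R') (h : W ≤ R) (h' : W ≤ R') : R ⊓ R' = W := by
  have hd : Nat.card (R ⊓ R' : Subgroup G) ∈ Nat.divisors 9 :=
    Nat.mem_divisors.2 ⟨hR ▸ card_dvd_of_le inf_le_left, by norm_num⟩
  rw [show Nat.divisors 9 = {1, 3, 9} by decide] at hd
  simp only [Finset.mem_insert, Finset.mem_singleton] at hd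
  have hge : Nat.card W ≤ Nat.card (R ⊓ R' : Subgroup G) := Nat.card_le_card_of_injective _
    (inclusion_injective (le_inf h h'))
  rcases hd with e | e | e
  · rw [hW, e] at hge; norm_num at hge
  · exact (eq_of_le_of_card_ge (le_inf h h') (by rw [e, hW])).symm
  · exact absurd (eq_of_le_of_card_ge ((inf_eq_left.1
      (eq_of_le_of_card_ge inf_le_left (by rw [e, hR])))) (by rw [hR', hR])) hne

/-- The Sylow subgroups of the centraliser. -/
theorem fours {W : Subgroup G} (hW : Mem W) :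
    ({R | Nat.card R = 9 ∧ W ≤ R} : Set (Subgroup G)).ncard = 4 ∧
    ∀ R : Subgroup G, Nat.card R = 9 → W ≤ R → ∀ x ∈ centralizer (W : Set G), x ∈ normalizer (R : Set G) → x ∈ R := by
  haveI := Fact.mk Nat.prime_three
  have hC := (K.cards hW).1
  obtain ⟨h3, R₀, R₁, hR₀, hR₁, hne, hWR₀, hWR₁⟩ := hW
  set C := centralizer (W : Set G) with hCdef
  have hP9 : ∀ P : Sylow 3 C, Nat.card (P : Subgroup C) = 9 := fun P => by
    rw [P.card_eq_multiplicity, hC, Nat.factorization_def _ Nat.prime_three,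
      show (36 : ℕ) = 3 ^ 2 * 4 by norm_num, padicValNat.mul (by norm_num) (by norm_num),
      padicValNat.prime_pow, padicValNat.eq_zero_of_not_dvd (by norm_num : ¬ 3 ∣ 4)]
    norm_num
  have hex : ∀ S : Subgroup G, Nat.card S = 9 → W ≤ S → ∃ P : Sylow 3 C, (P : Subgroup C).map C.subtype = S := by
    intro S hS hWS
    have hSC : S ≤ C := nine_le_cent hS hWS
    have hc : Nat.card (S.subgroupOf C) = 9 := by rw [Nat.card_congr (subgroupOfEquivOfLe hSC).toEquiv, hS]
    obtain ⟨P, hP⟩ := (IsPGroup.of_card (p := 3) (n := 2) (G := S.subgroupOf C) hc).exists_le_sylow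
    refine ⟨P, ?_⟩
    rw [← eq_of_le_of_card_ge hP (by rw [hP9, hc]), subgroupOf_map_subtype, inf_eq_left.2 hSC]
  obtain ⟨n, hn, hn1, hn2⟩ := K.two_sylows hR₀ hR₁ hne (nine_le_cent hR₀ hWR₀) (nine_le_cent hR₁ hWR₁)
  obtain ⟨P₀, hP₀⟩ := hex R₀ hR₀ hWR₀
  have hcnt : Nat.card (Sylow 3 C) = 4 := by
    obtain ⟨P₁, hP₁⟩ := hex R₁ hR₁ hWR₁
    have hlt : 1 < Nat.card (Sylow 3 C) := Finite.one_lt_card_iff_nontrivial.2
      ⟨P₀, P₁, fun e => hne (by rw [← hP₀, ← hP₁, e])⟩
    have h1 := P₀.card_dvd_index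
    have h2 := (P₀ : Subgroup C).card_mul_index
    rw [hP9, hC] at h2
    rw [show (P₀ : Subgroup C).index = 4 by omega] at h1
    have h3' := card_sylow_modEq_one 3 C
    unfold Nat.ModEq at h3'
    have := Nat.le_of_dvd (by norm_num) h1
    omega
  refine ⟨?_, fun R hR hWR x hx hxN => ?_⟩
  · rw [← hcnt, ← Nat.card_coe_set_eq]
    refine (Nat.card_eq_of_bijective (fun P : Sylow 3 C => (⟨(P : Subgroup C).map C.subtype,
      (card_map_of_injective Subtype.coe_injective).trans (hP9 P), K.w_le_of_le h3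
        ((card_map_of_injective Subtype.coe_injective).trans (hP9 P)) (map_subtype_le _)⟩ :
        ({R | Nat.card R = 9 ∧ W ≤ R} : Set (Subgroup G)))) ⟨fun P Q h => ?_, fun S => ?_⟩).symm
    · exact Sylow.ext (map_injective Subtype.coe_injective (congrArg Subtype.val h))
    · obtain ⟨P, hP⟩ := hex S.1 S.2.1 S.2.2
      exact ⟨P, Subtype.ext hP⟩
  · obtain ⟨P, rfl⟩ := hex R hR hWR
    have hNP : Nat.card (normalizer ((P : Subgroup C) : Set C)) = 9 := by
      have h1 := (normalizer ((P : Subgroup C) : Set C)).card_mul_index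
      have h2 : (normalizer ((P : Subgroup C) : Set C)).index = 4 := by
        rw [← hcnt, P.card_eq_index_normalizer]; rfl
      rw [h2, hC] at h1
      omega
    have hEq : (P : Subgroup C) = normalizer ((P : Subgroup C) : Set C) :=
      eq_of_le_of_card_ge le_normalizer (by rw [hNP, hP9])
    refine ⟨⟨x, hx⟩, ?_, rfl⟩
    show (⟨x, hx⟩ : C) ∈ (P : Subgroup C)
    rw [hEq, mem_normalizer_iff]
    intro y
    have := mem_normalizer_iff.1 hxN (y : G)
    constructor
    · intro hy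
      obtain ⟨z, hz, e⟩ := this.1 ⟨y, hy, rfl⟩
      rwa [show (⟨x, hx⟩ : C) * y * (⟨x, hx⟩ : C)⁻¹ = z from Subtype.ext e.symm]
    · intro hy
      obtain ⟨z, hz, e⟩ := this.2 ⟨_, hy, rfl⟩
      rwa [show y = z from Subtype.ext e.symm]

theorem self_normal {W R : Subgroup G} (hW : Mem W) (hR : Nat.card R = 9) (hWR : W ≤ R) {x : G}
    (hx : x ∈ centralizer (W : Set G)) (hxN : x ∈ normalizer (R : Set G)) : x ∈ R :=
  (K.fours hW).2 R hR hWR x hx hxN

theorem exists_nine {W : Subgroup G} (hW : Mem W) {a : G} (ha : a ∈ centralizer (W : Set G)) (ha9 : a ^ 9 = 1) :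
    ∃ R : Subgroup G, Nat.card R = 9 ∧ W ≤ R ∧ a ∈ R := by
  haveI := Fact.mk Nat.prime_three
  set C := centralizer (W : Set G) with hC
  have hp : IsPGroup 3 (zpowers (⟨a, ha⟩ : C)) := by
    obtain ⟨j, -, hj⟩ := (Nat.dvd_prime_pow Nat.prime_three).1
      (show orderOf a ∣ 3 ^ 2 from orderOf_dvd_of_pow_eq_one ha9)
    exact IsPGroup.of_card (n := j) (by rw [Nat.card_zpowers, orderOf_mk, hj])
  obtain ⟨P, hP⟩ := hp.exists_le_sylow
  have h9 : Nat.card ((P : Subgroup C).map C.subtype) = 9 := by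
    rw [card_map_of_injective Subtype.coe_injective, P.card_eq_multiplicity, (K.cards hW).1,
      Nat.factorization_def _ Nat.prime_three, show (36 : ℕ) = 3 ^ 2 * 4 by norm_num,
      padicValNat.mul (by norm_num) (by norm_num),
      padicValNat.prime_pow, padicValNat.eq_zero_of_not_dvd (by norm_num : ¬ 3 ∣ 4)]
    norm_num
  exact ⟨_, h9, K.w_le_of_le hW.1 h9 (map_subtype_le _), ⟨⟨a, ha⟩, hP (mem_zpowers _), rfl⟩⟩

/-- Elements of order three outside act without fixed points. -/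
theorem commute_eq_one {W : Subgroup G} (hW : Mem W) {a t : G} (ha : a ∈ centralizer (W : Set G))
    (ha9 : a ^ 9 = 1) (haW : a ∉ W) (ht : t ∈ centralizer (W : Set G)) (ht4 : t ^ 4 = 1)
    (hta : t * a = a * t) : t = 1 := by
  haveI := Fact.mk Nat.prime_three
  obtain ⟨R, hR, hWR, haR⟩ := K.exists_nine hW ha ha9
  set J := W ⊔ zpowers a with hJ
  have hJR : J ≤ R := sup_le hWR (zpowers_le.2 haR)
  have hJ9 : J = R := by
    refine eq_of_le_of_card_ge hJR ?_
    have hd : Nat.card J ∈ Nat.divisors 9 := Nat.mem_divisors.2 ⟨hR ▸ card_dvd_of_le hJR, by norm_num⟩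
    rw [show Nat.divisors 9 = {1, 3, 9} by decide] at hd
    simp only [Finset.mem_insert, Finset.mem_singleton] at hd
    rcases hd with e | e | e
    · have := card_dvd_of_le (le_sup_left : W ≤ J)
      rw [hW.1, e] at this; norm_num at this
    · exact absurd ((eq_of_le_of_card_ge (le_sup_left : W ≤ J) (by rw [hW.1, e])).symm ▸
        (mem_sup_right (mem_zpowers a) : a ∈ J)) haW
    · rw [e, hR]
  have htR : t ∈ centralizer (R : Set G) := by
    exact mem_centralizer_iff.2 fun r hr => by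
      have : J ≤ centralizer ({t} : Set G) := sup_le
        (fun w hw => mem_centralizer_singleton_iff.2 (comm_of_le_cent ht hw).symm)
        (zpowers_le.2 (mem_centralizer_singleton_iff.2 hta.symm))
      exact mem_centralizer_singleton_iff.1 (this (hJ9.symm ▸ hr))
  have htR' : t ∈ R := K.self_normal hW hR hWR ht (centralizer_le_normalizer _ htR)
  have h9 : t ^ 9 = 1 := by
    have := congrArg Subtype.val (pow_card_eq_one' (x := (⟨t, htR'⟩ : R)))
    rwa [hR] at this
  simpa using pow_gcd_eq_one.2 ⟨ht4, h9⟩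

theorem tt_spec {W : Subgroup G} (hW : Mem W) : tt W ≤ centralizer (W : Set G) ∧ Nat.card (tt W) = 4 ∧
    ∀ h ∈ centralizer (W : Set G), h ^ 4 = 1 → h ∈ tt W := by
  classical
  haveI := Fact.mk Nat.prime_two
  have hC := (K.cards hW).1
  set C := centralizer (W : Set G) with hCdef
  haveI : Fintype G := Fintype.ofFinite G
  obtain ⟨T', hT'⟩ := Sylow.exists_subgroup_card_pow_prime (G := C) 2 (n := 2) (by rw [hC]; norm_num)
  set T := T'.map C.subtype with hT
  have hTC : T ≤ C := map_subtype_le _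
  have hT4 : Nat.card T = 4 := by rw [hT, card_map_of_injective Subtype.coe_injective, hT']; norm_num
  have hp : ∀ t ∈ T, t ^ 4 = 1 := fun t ht => by
    have := congrArg Subtype.val (pow_card_eq_one' (x := (⟨t, ht⟩ : T)))
    rwa [hT4] at this
  let fs : Subgroup G → Finset G := fun H => Finset.univ.filter (· ∈ H)
  have hfs : ∀ H : Subgroup G, (fs H).card = Nat.card H := fun H => by
    rw [Nat.card_eq_fintype_card, Fintype.card_subtype]
  have hfm : ∀ (H : Subgroup G) (x : G), x ∈ fs H ↔ x ∈ H := fun H x => by simp [fs]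
  let F : Finset (Subgroup G) := Finset.univ.filter fun R => Nat.card R = 9 ∧ W ≤ R
  have hF : F.card = 4 := by
    rw [← (K.fours hW).1, ← Set.ncard_coe_finset]
    congr 1
    ext R
    simp [F]
  let U : Finset G := F.biUnion fun R => fs R \ fs W
  have hU : U.card = 24 := by
    rw [Finset.card_biUnion]
    · rw [Finset.sum_const_nat (m := 6) fun R hR => ?_, hF]
      simp only [F, Finset.mem_filter, Finset.mem_univ, true_and] at hR
      rw [Finset.card_sdiff_of_subset (fun x hx => (hfm _ _).2 (hR.2 ((hfm _ _).1 hx))), hfs, hfs, hR.1, hW.1]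
    · intro R hR R' hR' hne
      simp only [F, Finset.coe_filter, Finset.mem_univ, true_and, Set.mem_setOf_eq] at hR hR'
      rw [Function.onFun, Finset.disjoint_left]
      intro x hx hx'
      simp only [Finset.mem_sdiff, hfm] at hx hx'
      exact hx.2 (K.meet_eq hW.1 hR.1 hR'.1 hne hR.2 hR'.2 ▸ (⟨hx.1, hx'.1⟩ : x ∈ R ⊓ R'))
  let A : Finset G := (fs C).filter fun x => x ^ 9 ≠ 1
  have hA : A.card ≤ 9 := by
    have hsub : U ∪ fs W ⊆ (fs C).filter fun x => ¬ (x ^ 9 ≠ 1) := by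
      intro x hx
      simp only [not_not, Finset.mem_filter, hfm]
      rcases Finset.mem_union.1 hx with h | h
      · obtain ⟨R, hR, hxR⟩ := Finset.mem_biUnion.1 h
        simp only [F, Finset.mem_filter, Finset.mem_univ, true_and] at hR
        simp only [Finset.mem_sdiff, hfm] at hxR
        refine ⟨nine_le_cent hR.1 hR.2 hxR.1, ?_⟩
        have := congrArg Subtype.val (pow_card_eq_one' (x := (⟨x, hxR.1⟩ : R)))
        rwa [hR.1] at this
      · rw [hfm] at h
        obtain ⟨R, hR, hWR, hxR⟩ : ∃ R : Subgroup G, Nat.card R = 9 ∧ W ≤ R ∧ x ∈ R := by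
          obtain ⟨-, R, -, hR, -, -, hWR, -⟩ := hW
          exact ⟨R, hR, hWR, hWR h⟩
        refine ⟨nine_le_cent hR hWR hxR, ?_⟩
        have := congrArg Subtype.val (pow_card_eq_one' (x := (⟨x, hxR⟩ : R)))
        rwa [hR] at this
    have hdis : Disjoint U (fs W) := Finset.disjoint_left.2 fun x hx hx' => by
      obtain ⟨R, -, hxR⟩ := Finset.mem_biUnion.1 hx
      exact (Finset.mem_sdiff.1 hxR).2 hx'
    have h1 := Finset.card_le_card hsub
    rw [Finset.card_union_of_disjoint hdis, hU, hfs, hW.1] at h1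
    have h2 := Finset.card_filter_add_card_filter_not (s := fs C) (fun x => x ^ 9 ≠ 1)
    rw [hfs, hC] at h2
    simp only [A]
    omega
  have h3 : ∀ w ∈ W, w ^ 3 = 1 := fun w hw => by
    have := congrArg Subtype.val (pow_card_eq_one' (x := (⟨w, hw⟩ : W)))
    rwa [hW.1] at this
  have hWC : W ≤ C := fun w hw => by
    obtain ⟨-, R, -, hR, -, -, hWR, -⟩ := hW
    exact nine_le_cent hR hWR (hWR hw)
  have hcomm : ∀ t ∈ T, ∀ w ∈ W, Commute t w := fun t ht w hw => comm_of_le_cent (hTC ht) hw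
  let f : G × G → G := fun q => q.1 * q.2
  have hmap : Finset.image f (((fs T).erase 1) ×ˢ fs W) ⊆ A := by
    intro x hx
    obtain ⟨⟨t, w⟩, hq, rfl⟩ := Finset.mem_image.1 hx
    simp only [Finset.mem_product, Finset.mem_erase, hfm] at hq
    simp only [A, f, Finset.mem_filter, hfm]
    refine ⟨mul_mem (hTC hq.1.2) (hWC hq.2), fun e => hq.1.1 ?_⟩
    rw [(hcomm t hq.1.2 w hq.2).mul_pow, show (9 : ℕ) = 3 * 3 by norm_num, pow_mul w, h3 w hq.2, one_pow,
      mul_one] at e
    simpa using pow_gcd_eq_one.2 ⟨hp t hq.1.2, e⟩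
  have hinj : Set.InjOn f ((((fs T).erase 1) ×ˢ fs W : Finset (G × G)) : Set (G × G)) := by
    rintro ⟨t, w⟩ hq ⟨t', w'⟩ hq' e
    simp only [Finset.coe_product, Set.mem_prod, Finset.mem_coe, Finset.mem_erase, hfm] at hq hq'
    simp only [f] at e
    have h1 : t'⁻¹ * t = w' * w⁻¹ := by
      calc t'⁻¹ * t = t'⁻¹ * (t * w) * w⁻¹ := by group
        _ = _ := by rw [e]; group
    have h2 : t'⁻¹ * t = 1 := by
      have hz := h3 _ (mul_mem hq'.2 (inv_mem hq.2))
      rw [← h1] at hz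
      simpa using pow_gcd_eq_one.2 ⟨hp _ (mul_mem (inv_mem hq'.1.2) hq.1.2), hz⟩
    have ht : t = t' := (inv_mul_eq_one.1 h2).symm
    rw [ht] at e
    exact Prod.ext ht (mul_left_cancel e)
  have heq : Finset.image f (((fs T).erase 1) ×ˢ fs W) = A := by
    refine Finset.eq_of_subset_of_card_le hmap ?_
    rw [Finset.card_image_of_injOn hinj, Finset.card_product, Finset.card_erase_of_mem ((hfm _ _).2 (one_mem _)),
      hfs, hfs, hT4, hW.1]
    exact hA
  have hall : ∀ h ∈ C, h ^ 4 = 1 → h ∈ T := fun h hh h4 => by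
    by_cases h9 : h ^ 9 = 1
    · have : h = 1 := by simpa using pow_gcd_eq_one.2 ⟨h4, h9⟩
      exact this ▸ one_mem _
    have hm : h ∈ A := by simp only [A, Finset.mem_filter, hfm]; exact ⟨hh, h9⟩
    rw [← heq] at hm
    obtain ⟨⟨t, w⟩, hq, rfl⟩ := Finset.mem_image.1 hm
    simp only [Finset.mem_product, Finset.mem_erase, hfm] at hq
    simp only [f] at h4 ⊢
    rw [(hcomm t hq.1.2 w hq.2).mul_pow, hp t hq.1.2, one_mul, show (4 : ℕ) = 3 + 1 by norm_num, pow_succ,
      h3 w hq.2, one_mul] at h4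
    rw [h4, mul_one]
    exact hq.1.2
  have htT : tt W = T := le_antisymm ((closure_le _).2 fun h hh => hall h hh.1 hh.2)
    fun t ht => subset_closure ⟨hTC ht, hp t ht⟩
  rw [htT]
  exact ⟨hTC, hT4, hall⟩

theorem tt_pow {W : Subgroup G} (hW : Mem W) {t : G} (ht : t ∈ tt W) : t ^ 4 = 1 := by
  have := congrArg Subtype.val (pow_card_eq_one' (x := (⟨t, ht⟩ : tt W)))
  rwa [(K.tt_spec hW).2.1] at this

theorem tt_le {W : Subgroup G} (hW : Mem W) : tt W ≤ centralizer (W : Set G) := (K.tt_spec hW).1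

theorem tt_fpf {W : Subgroup G} (hW : Mem W) {a t : G} (ha : a ∈ centralizer (W : Set G))
    (ha9 : a ^ 9 = 1) (haW : a ∉ W) (ht : t ∈ tt W) (hta : t * a = a * t) : t = 1 :=
  K.commute_eq_one hW ha ha9 haW (K.tt_le hW ht) (K.tt_pow hW ht) hta

theorem exists_outside {W : Subgroup G} (hW : Mem W) :
    ∃ a, a ∈ centralizer (W : Set G) ∧ a ^ 9 = 1 ∧ a ∉ W := by
  obtain ⟨h3, R, -, hR, -, -, hWR, -⟩ := hW
  obtain ⟨a, ha, haW⟩ := SetLike.exists_of_lt (lt_of_le_of_ne hWR fun e => by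
    rw [e, hR] at h3; norm_num at h3)
  refine ⟨a, nine_le_cent hR hWR ha, ?_, haW⟩
  have := congrArg Subtype.val (pow_card_eq_one' (x := (⟨a, ha⟩ : R)))
  rwa [hR] at this

theorem tt_sq {W : Subgroup G} (hW : Mem W) {t : G} (ht : t ∈ tt W) : t * t = 1 := by
  by_contra hne
  have h4 := (K.tt_spec hW).2.1
  have h1 : orderOf t = 4 := by
    haveI := Fact.mk Nat.prime_two
    exact orderOf_eq_prime_pow (p := 2) (n := 1) (by rwa [pow_one, pow_two]) (K.tt_pow hW ht)
  have hz : zpowers t = tt W :=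
    eq_of_le_of_card_ge (zpowers_le.2 ht) (by rw [Nat.card_zpowers, h1, h4])
  obtain ⟨a, haC, ha9, haW⟩ := K.exists_outside hW
  have hx : a * t * a⁻¹ ∈ tt W := tt_conj (centralizer_le_normalizer _ haC) ht
  rw [← hz, ← mem_powers_iff_mem_zpowers, Submonoid.mem_powers_iff] at hx
  obtain ⟨i, hi⟩ := hx
  have hsq : a * (t * t) * a⁻¹ = (t ^ i) * (t ^ i) := by rw [hi]; group
  rw [← pow_add, ← two_mul, pow_mul, pow_two, ← pow_mod_orderOf] at hsq
  have h2 : orderOf (t * t) = 2 := orderOf_eq_prime (by rw [← pow_two, ← pow_mul]; exact K.tt_pow hW ht) hne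
  rw [h2] at hsq
  rcases Nat.mod_two_eq_zero_or_one i with e | e <;> rw [e] at hsq
  · exact hne (conj_eq_one_iff.1 (hsq.trans (pow_zero _)))
  · rw [pow_one] at hsq
    exact hne (K.tt_fpf hW haC ha9 haW (mul_mem ht ht) (mul_inv_eq_iff_eq_mul.1 hsq).symm)

theorem tt_comm {W : Subgroup G} (hW : Mem W) {x y : G} (hx : x ∈ centralizer (W : Set G))
    (hy : y ∈ centralizer (W : Set G)) : x * y * x⁻¹ * y⁻¹ ∈ tt W := by
  haveI := Fact.mk Nat.prime_three
  set C := centralizer (W : Set G) with hC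
  haveI : ((tt W).subgroupOf C).Normal :=
    ⟨fun n hn g => mem_subgroupOf.2 (tt_conj (centralizer_le_normalizer _ g.2) (mem_subgroupOf.1 hn))⟩
  have hQ : Nat.card (C ⧸ (tt W).subgroupOf C) = 3 ^ 2 := by
    have := ((tt W).subgroupOf C).card_eq_card_quotient_mul_card_subgroup
    rw [Nat.card_congr (subgroupOfEquivOfLe (K.tt_le hW)).toEquiv, (K.tt_spec hW).2.1, (K.cards hW).1] at this
    omega
  have h1 := IsPGroup.commutative_of_card_eq_prime_sq hQ (QuotientGroup.mk ⟨x, hx⟩) (QuotientGroup.mk ⟨y, hy⟩)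
  have h2 : ((⟨x, hx⟩ * ⟨y, hy⟩ * (⟨x, hx⟩)⁻¹ * (⟨y, hy⟩)⁻¹ : C) : C ⧸ (tt W).subgroupOf C) = 1 := by
    simp only [QuotientGroup.mk_mul, QuotientGroup.mk_inv]
    rw [h1, mul_inv_cancel_right, mul_inv_cancel]
  exact mem_subgroupOf.1 ((QuotientGroup.eq_one_iff _).1 h2)

theorem mem_in_nine {R : Subgroup G} (hR : Nat.card R = 9) : ∃ W ≤ R, Mem W := by
  obtain ⟨R', hR', hne, h3⟩ := K.exists_meet hR
  exact ⟨R ⊓ R', inf_le_left, h3, R, R', hR, hR', hne.symm, inf_le_left, inf_le_right⟩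

theorem self_cent {R : Subgroup G} (hR : Nat.card R = 9) {x : G} (hx : x ∈ centralizer (R : Set G)) : x ∈ R := by
  obtain ⟨W, hWR, hW⟩ := K.mem_in_nine hR
  exact K.self_normal hW hR hWR (centralizer_le hWR hx) (centralizer_le_normalizer _ hx)

end Ctx

end Cfsg.Agent.A7Recog
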