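import Cfsg.Agent.Lib.A7Recog.Graph

/-!
A simple group of order 2520 is the alternating group of degree seven.
-/

set_option autoImplicit false

namespace Cfsg.Agent.A7Recog

open Subgroup

variable {G : Type*} [Group G]

theorem symm_pair {p q : G} (h : p * q * (p * q) = 1) : q * p * (q * p) = 1 := by
  calc q * p * (q * p) = p⁻¹ * (p * q * (p * q)) * p := by group
    _ = 1 := by rw [h, mul_one, inv_mul_cancel]

theorem Ctx.exists_carm [Finite G] (K : Ctx G) : ∃ y : ℕ → G, Carm y 5 ∧ y 0 ≠ 1 := by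
  classical
  obtain ⟨A, hA⟩ := K.exists_mem
  obtain ⟨-, R, -, hR, -, -, hAR, -⟩ := id hA
  obtain ⟨X, hAX, -⟩ := K.exists_adj hA hR hAR
  have hX := hAX.2.1
  have hT4 : ∀ {W : Subgroup G}, Mem W → ∃ u ∈ tt W, ∃ w ∈ tt W, u ≠ 1 ∧ w ≠ 1 ∧ u ≠ w := by
    intro W hW
    haveI : Fintype (tt W) := Fintype.ofFinite _
    obtain ⟨u, hu⟩ : ∃ x : tt W, x ≠ 1 := Fintype.exists_ne_of_one_lt_card (by
      rw [← Nat.card_eq_fintype_card, (K.tt_spec hW).2.1]; norm_num) 1
    obtain ⟨w, hw⟩ : ∃ x : tt W, x ∉ ({1, u} : Finset (tt W)) := by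
      by_contra hall
      push Not at hall
      have h := Finset.card_le_card (s := (Finset.univ : Finset (tt W))) (fun d _ => hall d)
      rw [Finset.card_univ, ← Nat.card_eq_fintype_card, (K.tt_spec hW).2.1] at h
      have := h.trans Finset.card_le_two
      norm_num at this
    simp only [Finset.mem_insert, Finset.mem_singleton, not_or] at hw
    exact ⟨u, u.2, w, w.2, fun e => hu (Subtype.ext e), fun e => hw.1 (Subtype.ext e),
      fun e => hw.2 (Subtype.ext e.symm)⟩
  obtain ⟨v0, hv0, -, -, hv01, -, -⟩ := hT4 hX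
  obtain ⟨a, ha, ha1, -⟩ := exists_gen hA.1
  have hi0 : v0⁻¹ = v0 := inv_eq_of_mul_eq_one_left (K.tt_sq hX hv0)
  set B := cj v0 A with hB'
  have hXB : Adj X B := cj_eq_self_of_cent (K.tt_le hX hv0) ▸ hAX.symm.cj v0
  have hAB : A ≠ B := fun e => K.tt_no_norm hAX.symm hv0 hv01 (cj_eq_iff.1 e.symm)
  obtain ⟨b, hb'⟩ : ∃ b, b = v0 * a⁻¹ * v0⁻¹ := ⟨_, rfl⟩
  have hb : b ∈ B := mem_cj.2 (by
    rw [hb', show v0⁻¹ * (v0 * a⁻¹ * v0⁻¹) * v0 = a⁻¹ by group]; exact inv_mem ha)
  have hb1 : b ≠ 1 := fun e => ha1 (inv_eq_one.1 (conj_eq_one_iff.1 (hb' ▸ e)))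
  have hab : a * b * (a * b) = 1 := by
    have h := K.tt_comm hX (hAX.symm.2.2.2 ha) (K.tt_le hX hv0)
    have e : a * b = a * v0 * a⁻¹ * v0⁻¹ := by rw [hb']; group
    rw [e]
    exact K.tt_sq hX h
  obtain ⟨v1, hv1, v2, hv2, h11, h21, h12⟩ := hT4 hA
  have hv3 : v1 * v2 ∈ tt A := mul_mem hv1 hv2
  have h31 : v1 * v2 ≠ 1 := fun e => h12 (by
    calc v1 = v1 * (v2 * v2) := by rw [K.tt_sq hA hv2, mul_one]
      _ = v2 := by rw [← mul_assoc, e, one_mul])
  have h13 : v1 ≠ v1 * v2 := fun e => h21 (by simpa using e)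
  have h23 : v2 ≠ v1 * v2 := fun e => h11 (by simpa using e)
  have hP : ∀ v ∈ tt A, v ≠ 1 → a * (v * b * v) * (a * (v * b * v)) = 1 ∧
      b * (v * b * v) * (b * (v * b * v)) = 1 ∧ (v * b * v) * (v * b * v) * (v * b * v) = 1 := by
    intro v hv hv'
    have h2 := K.tt_sq hA hv
    have hc : Commute v a := comm_of_le_cent (K.tt_le hA hv) ha
    refine ⟨?_, K.pair_conj hAX.symm hXB hAB hv hv' hb hb1, ?_⟩
    · have e : a * (v * b * v) = v * (a * b) * v := by
        calc a * (v * b * v) = (a * v) * b * v := by group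
          _ = _ := by rw [← hc.eq]; group
      rw [e]
      calc v * (a * b) * v * (v * (a * b) * v) = v * (a * b) * (v * v) * ((a * b) * v) := by group
        _ = v * (a * b * (a * b)) * v := by rw [h2]; group
        _ = 1 := by rw [hab, mul_one, h2]
    · calc v * b * v * (v * b * v) * (v * b * v) = v * b * (v * v) * b * (v * v) * b * v := by group
        _ = v * (b ^ 3) * v := by rw [h2, pow_succ, pow_two]; group
        _ = 1 := by rw [pow_three hXB.2.1.1 hb, mul_one, h2]
  have hQ : ∀ v ∈ tt A, ∀ w ∈ tt A, v ≠ 1 → w ≠ 1 → v ≠ w →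
      (v * b * v) * (w * b * w) * ((v * b * v) * (w * b * w)) = 1 := by
    intro v hv w hw hv' hw' hne
    have h2 := K.tt_sq hA hv
    have h2' := K.tt_sq hA hw
    have hu := mul_mem hv hw
    have hu1 : v * w ≠ 1 := fun e => hne (by
      calc v = v * (w * w) := by rw [h2', mul_one]
        _ = w := by rw [← mul_assoc, e, one_mul])
    have h := K.pair_conj hAX.symm hXB hAB hu hu1 hb hb1
    have hwv : w * v = v * w := by
      calc w * v = (v * w)⁻¹ := by rw [mul_inv_rev, inv_eq_of_mul_eq_one_left h2, inv_eq_of_mul_eq_one_left h2']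
        _ = v * w := inv_eq_of_mul_eq_one_left (K.tt_sq hA hu)
    have e : (v * b * v) * (w * b * w) = v * (b * (v * w * b * (v * w))) * v := by
      calc (v * b * v) * (w * b * w) = v * b * v * w * b * w * (v * v) := by rw [h2, mul_one]; group
        _ = v * b * v * w * b * (w * v) * v := by group
        _ = _ := by rw [hwv]; group
    rw [e]
    calc v * (b * (v * w * b * (v * w))) * v * (v * (b * (v * w * b * (v * w))) * v)
        = v * (b * (v * w * b * (v * w))) * (v * v) * ((b * (v * w * b * (v * w))) * v) := by group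
      _ = v * ((b * (v * w * b * (v * w))) * (b * (v * w * b * (v * w)))) * v := by rw [h2]; group
      _ = 1 := by rw [h, mul_one, h2]
  let y : ℕ → G := fun i => match i with
    | 0 => a
    | 1 => b
    | 2 => v1 * b * v1
    | 3 => v2 * b * v2
    | _ => v1 * v2 * b * (v1 * v2)
  refine ⟨y, ⟨?_, ?_⟩, ha1⟩
  · intro i hi
    interval_cases i
    · show a * a * a = 1
      have := pow_three hA.1 ha
      rwa [pow_succ, pow_two] at this
    · show b * b * b = 1
      have := pow_three hXB.2.1.1 hb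
      rwa [pow_succ, pow_two] at this
    exacts [(hP v1 hv1 h11).2.2, (hP v2 hv2 h21).2.2, (hP _ hv3 h31).2.2]
  · intro i hi j hj hij
    rcases Nat.lt_or_gt_of_ne hij with hlt | hlt
    · interval_cases j <;> interval_cases i
      exacts [hab, (hP v1 hv1 h11).1, (hP v1 hv1 h11).2.1, (hP v2 hv2 h21).1, (hP v2 hv2 h21).2.1,
        hQ v1 hv1 v2 hv2 h11 h21 h12, (hP _ hv3 h31).1, (hP _ hv3 h31).2.1,
        hQ v1 hv1 _ hv3 h11 h31 h13, hQ v2 hv2 _ hv3 h21 h31 h23]
    · refine symm_pair ?_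
      interval_cases i <;> interval_cases j
      exacts [hab, (hP v1 hv1 h11).1, (hP v1 hv1 h11).2.1, (hP v2 hv2 h21).1, (hP v2 hv2 h21).2.1,
        hQ v1 hv1 v2 hv2 h11 h21 h12, (hP _ hv3 h31).1, (hP _ hv3 h31).2.1,
        hQ v1 hv1 _ hv3 h11 h31 h13, hQ v2 hv2 _ hv3 h21 h31 h23]

/-- The alternating group of degree seven is determined by its order among the simple groups. -/
theorem iso_alt7 [Finite G] [IsSimpleGroup G] (h : Nat.card G = 2520) :
    Nonempty (G ≃* alternatingGroup (Fin 7)) := by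
  by_cases h7 : ∃ H : Subgroup G, H.index = 7
  · obtain ⟨H, hH⟩ := h7
    have hne : H ≠ ⊤ := fun e => by rw [e, index_top] at hH; norm_num at hH
    have hnc : ¬ IsMulCommutative G := fun hc => by
      open scoped IsMulCommutative in
      have := IsSimpleGroup.prime_card (α := G)
      rw [h] at this
      norm_num at this
    obtain ⟨f, hf⟩ := Small.exists_hom_alternating hnc hne
    let e : alternatingGroup (Fin H.index) ≃* alternatingGroup (Fin 7) := Equiv.altCongrHom (finCongr hH)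
    refine ⟨MulEquiv.ofBijective (e.toMonoidHom.comp f) ?_⟩
    exact (e.injective.comp hf).bijective_of_nat_card_le (le_of_eq (card_alt_seven.trans h.symm))
  · push Not at h7
    obtain ⟨y, hy, hy0⟩ := Ctx.exists_carm (G := G) ⟨inferInstance, h, h7⟩
    exact iso_of_carm h y hy hy0

end Cfsg.Agent.A7Recog
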