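import Cfsg.Agent.Lib.A7Recog.Carmichael
import Cfsg.Agent.Lib.OddDown.ClassSizeSol
import Mathlib.GroupTheory.SpecificGroups.Cyclic
import Mathlib.GroupTheory.Transfer

/-!
Sylow numbers in a simple group of order 2520.
-/

set_option autoImplicit false

namespace Cfsg.Agent.A7Recog

open Subgroup

variable {G : Type*} [Group G]

/-- A simple group of order 2520 without a subgroup of index seven. -/
structure Ctx (G : Type*) [Group G] : Prop where
  simple : IsSimpleGroup G
  card : Nat.card G = 2520
  no7 : ∀ H : Subgroup G, H.index ≠ 7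

theorem relIndex_dvd_mulAut (H : Subgroup G) :
    (centralizer (H : Set G)).relIndex (normalizer (H : Set G)) ∣ Nat.card (MulAut H) := by
  rw [relIndex, ← normalizerMonoidHom_ker, index_ker]
  exact card_subgroup_dvd_card _

theorem card_mul_relIndex {H K : Subgroup G} (h : H ≤ K) : Nat.card H * H.relIndex K = Nat.card K := by
  rw [relIndex, ← Nat.card_congr (subgroupOfEquivOfLe h).toEquiv, card_mul_index]

/-- An element of order a power of `p` normalising `H`: the fixed points count modulo `p`. -/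
theorem modEq_fix [Finite G] {p : ℕ} [Fact p.Prime] {H : Subgroup G} {x : G} {k : ℕ}
    (hx : orderOf x = p ^ k) (hN : x ∈ normalizer (H : Set G)) :
    Nat.card H ≡ Nat.card (H ⊓ centralizer ({x} : Set G) : Subgroup G) [MOD p] := by
  have hXN : zpowers x ≤ normalizer (H : Set G) := zpowers_le.2 hN
  letI : MulAction (zpowers x) H :=
    MulAction.compHom H ((H.normalizerMonoidHom).comp (Subgroup.inclusion hXN))
  have hsmul : ∀ (g : zpowers x) (h : H), ((g • h : H) : G) = (g : G) * h * (g : G)⁻¹ := fun g h => rfl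
  have hP : IsPGroup p (zpowers x) := IsPGroup.of_card (n := k) (by rw [Nat.card_zpowers, hx])
  refine (hP.card_modEq_card_fixedPoints H).trans (congrArg (· % p) (Nat.card_congr ?_))
  exact
    { toFun := fun h => ⟨((h : H) : G), (h : H).2, mem_centralizer_singleton_iff.2 (by
        have h1 := congrArg Subtype.val (h.2 ⟨x, mem_zpowers x⟩)
        rw [hsmul] at h1
        exact (mul_inv_eq_iff_eq_mul.1 h1).symm)⟩
      invFun := fun h => ⟨⟨h, h.2.1⟩, fun g => Subtype.ext (by
        rw [hsmul]
        obtain ⟨i, hi⟩ := mem_zpowers_iff.1 g.2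
        rw [← hi, mul_inv_eq_iff_eq_mul]
        exact ((show Commute (h : G) x from mem_centralizer_singleton_iff.1 h.2.2).zpow_right i).symm.eq)⟩
      left_inv := fun h => rfl
      right_inv := fun h => rfl }

namespace Ctx

variable [Finite G] (K : Ctx G)
include K

theorem hnc : ¬ ∀ a b : G, a * b = b * a := fun h => by
  haveI := K.simple
  haveI : IsMulCommutative G := ⟨⟨h⟩⟩
  open scoped IsMulCommutative in
  have := IsSimpleGroup.prime_card (α := G)
  rw [K.card] at this
  norm_num at this

theorem eight_le {H : Subgroup G} (hH : H ≠ ⊤) : 8 ≤ H.index := by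
  haveI := K.simple
  have h := Small.card_two_mul_dvd_factorial (fun hc => K.hnc fun a b => hc.is_comm.comm a b) hH
  rw [K.card] at h
  by_contra hlt
  have h6 : H.index ≤ 6 := by have := K.no7 H; omega
  have := Nat.le_of_dvd (by positivity) (h.trans (Nat.factorial_dvd_factorial h6))
  norm_num [Nat.factorial] at this

theorem card_le {H : Subgroup G} (hH : H ≠ ⊤) : Nat.card H ≤ 315 := by
  have h1 := H.card_mul_index
  rw [K.card] at h1
  have h2 := K.eight_le hH
  nlinarith

theorem cent_ne_top {w : G} (hw : w ≠ 1) : centralizer ({w} : Set G) ≠ ⊤ := fun h => by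
  haveI := K.simple
  have hc : w ∈ center G := mem_center_iff.2 fun g => mem_centralizer_singleton_iff.1 (h ▸ mem_top g)
  rcases (inferInstance : (center G).Normal).eq_bot_or_eq_top with e | e
  · exact hw (mem_bot.1 (e ▸ hc))
  · exact K.hnc fun a b => mem_center_iff.1 (e ▸ mem_top b) a

theorem sylow_card {p : ℕ} [hp : Fact p.Prime] (P : Sylow p G) (k : ℕ) (h1 : p ^ k ∣ 2520)
    (h2 : ¬ p ^ (k + 1) ∣ 2520) : Nat.card (P : Subgroup G) = p ^ k := by
  obtain ⟨j, hj⟩ := P.isPGroup'.exists_card_eq
  have h3 := (P : Subgroup G).card_mul_index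
  rw [hj, K.card] at h3
  rcases lt_trichotomy j k with h | h | h
  · refine absurd ?_ P.not_dvd_index
    obtain ⟨c, hc⟩ := h1
    refine ⟨p ^ (k - j - 1) * c, Nat.eq_of_mul_eq_mul_left (pow_pos hp.out.pos j) ?_⟩
    rw [h3, hc, ← mul_assoc p, ← pow_succ', ← mul_assoc, ← pow_add, show j + (k - j - 1 + 1) = k by omega]
  · rw [hj, h]
  · exact absurd ((pow_dvd_pow p h).trans ⟨_, h3.symm⟩) h2

theorem card7 (P : Sylow 7 G) [Fact (Nat.Prime 7)] : Nat.card (P : Subgroup G) = 7 :=
  K.sylow_card P 1 (by norm_num) (by norm_num)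

theorem burnside {p : ℕ} [hp : Fact p.Prime] (P : Sylow p G) (hd : p ∣ 2520) :
    ¬ normalizer ((P : Subgroup G) : Set G) ≤ centralizer ((P : Subgroup G) : Set G) := by
  intro hN
  haveI := K.simple
  haveI : IsMulCommutative (P : Subgroup G) := ⟨⟨fun a b => Subtype.ext
    (mem_centralizer_iff.1 (hN (le_normalizer b.2)) a a.2)⟩⟩
  refine K.hnc fun a b => ?_
  by_contra hab
  have hc := MonoidHom.ker_transferSylow_isComplement' P hN
  have h1 := hc.card_mul
  rcases (MonoidHom.transferSylow P hN).normal_ker.eq_bot_or_eq_top with e | e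
  · rw [e, card_bot, one_mul] at h1
    refine hab (congrArg Subtype.val (IsMulCommutative.is_comm.comm
      (⟨a, ?_⟩ : (P : Subgroup G)) ⟨b, ?_⟩)) <;>
    · rw [eq_top_of_card_eq _ h1]; exact mem_top _
  · have hdd : p ∣ Nat.card G := K.card ▸ hd
    rw [e, card_top, Nat.mul_eq_left Nat.card_pos.ne'] at h1
    exact hp.out.not_dvd_one (h1 ▸ P.dvd_card_of_dvd_card hdd)

theorem exists_sylow7 {x : G} (hx : orderOf x = 7) :
    ∃ P : Sylow 7 G, (P : Subgroup G) = zpowers x := by
  haveI := Fact.mk (by norm_num : Nat.Prime 7)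
  obtain ⟨P, hP⟩ := (IsPGroup.of_card (p := 7) (n := 1) (G := zpowers x)
    (by rw [Nat.card_zpowers, hx, pow_one])).exists_le_sylow
  refine ⟨P, (eq_of_le_of_card_ge hP ?_).symm⟩
  rw [K.card7 P, Nat.card_zpowers, hx]

/-- Commuting with an element of order seven. -/
theorem cent7 {x y : G} (hx : orderOf x = 7) (hc : y * x = x * y) (hy : orderOf y = 2 ∨ orderOf y = 3) :
    False := by
  haveI := K.simple
  haveI := Fact.mk (by norm_num : Nat.Prime 7)
  obtain ⟨P, hP⟩ := K.exists_sylow7 hx
  set N := normalizer ((P : Subgroup G) : Set G) with hN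
  set C := centralizer ((P : Subgroup G) : Set G) with hCdef
  have hxP : x ∈ (P : Subgroup G) := hP ▸ mem_zpowers x
  have hyC : y ∈ C := by
    rw [hCdef, hP]
    refine mem_centralizer_iff.2 fun z hz => ?_
    obtain ⟨i, rfl⟩ := mem_zpowers_iff.1 hz
    exact ((show Commute y x from hc).zpow_right i).symm.eq
  have hCN : C ≤ N := centralizer_le_normalizer _
  have hPC : (P : Subgroup G) ≤ C := by
    rw [hCdef, hP]
    refine zpowers_le.2 (mem_centralizer_iff.2 fun z hz => ?_)
    obtain ⟨i, rfl⟩ := mem_zpowers_iff.1 hz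
    exact ((Commute.refl x).zpow_left i).eq
  have hr := relIndex_dvd_mulAut (P : Subgroup G)
  haveI : IsCyclic (P : Subgroup G) := isCyclic_of_prime_card (K.card7 P)
  rw [IsCyclic.card_mulAut, K.card7 P, Nat.totient_prime (by norm_num)] at hr
  change C.relIndex N ∣ 6 at hr
  have hCc := card_mul_relIndex hCN
  have h7C : 7 ∣ Nat.card C := K.card7 P ▸ card_dvd_of_le hPC
  have hyd : orderOf y ∣ Nat.card C := by
    have := orderOf_dvd_natCard (⟨y, hyC⟩ : C)
    rwa [orderOf_mk] at this
  have hNi : N.index * Nat.card N = 2520 := by rw [mul_comm, card_mul_index, K.card]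
  have hn1 : N.index % 7 = 1 := by
    have := card_sylow_modEq_one 7 G
    rw [P.card_eq_index_normalizer] at this
    exact this
  have hne : N ≠ ⊤ := fun e => by
    rcases (normalizer_eq_top_iff.1 e).eq_bot_or_eq_top with e' | e'
    · have := K.card7 P
      rw [e', card_bot] at this
      norm_num at this
    · have := K.card7 P
      rw [e', card_top, K.card] at this
      norm_num at this
  have h8 := K.eight_le hne
  have hmem : N.index = 8 ∨ N.index = 15 ∨ N.index = 36 ∨ N.index = 120 := by
    have hdvd : N.index ∣ 360 := by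
      obtain ⟨c, hc'⟩ := (K.card7 P ▸ card_dvd_of_le (le_normalizer (H := (P : Subgroup G))) : 7 ∣ Nat.card N)
      exact ⟨c, by rw [hc'] at hNi; rw [mul_left_comm] at hNi; omega⟩
    have hm : N.index ∈ Nat.divisors 360 := Nat.mem_divisors.2 ⟨hdvd, by norm_num⟩
    have key : ∀ d ∈ Nat.divisors 360, d % 7 = 1 → 8 ≤ d → d = 8 ∨ d = 15 ∨ d = 36 ∨ d = 120 := by
      decide +kernel
    exact key _ hm hn1 h8
  have hCN' : C.relIndex N ≠ 1 := fun e => K.burnside P (by norm_num) (relIndex_eq_one.1 e)
  -- the action on the cosets of the normalizer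
  let p0 : G ⧸ N := QuotientGroup.mk 1
  have hfix0 : ∀ c ∈ N, c • p0 = p0 := fun c hc' => by
    show (QuotientGroup.mk (c * 1) : G ⧸ N) = QuotientGroup.mk 1
    rw [QuotientGroup.eq]
    simpa using inv_mem hc'
  have hxfix : ∀ z : G ⧸ N, x • z = z → z = p0 := by
    intro z hz
    obtain ⟨g, rfl⟩ := QuotientGroup.mk_surjective z
    have h1 : g⁻¹ * x * g ∈ N := by
      have : (QuotientGroup.mk (x * g) : G ⧸ N) = QuotientGroup.mk g := hz
      have h2 := inv_mem (QuotientGroup.eq.1 this)
      simpa [mul_assoc] using h2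
    have ho : orderOf (g⁻¹ * x * g) = 7 := by
      rw [← MulEquiv.orderOf_eq (MulAut.conj g⁻¹) x] at hx
      simpa [mul_assoc] using hx
    have hz' : IsPGroup 7 (zpowers (g⁻¹ * x * g)) := IsPGroup.of_card (n := 1) (by
      rw [Nat.card_zpowers, ho, pow_one])
    have h3 : g⁻¹ * x * g ∈ (P : Subgroup G) :=
      (P.is_maximal' (hz'.to_sup_of_normal_right' P.isPGroup' (zpowers_le.2 h1)) le_sup_right).le
        (mem_sup_left (mem_zpowers _))
    have h4 : g⁻¹ ∈ N := by
      have hmap : ((P : Subgroup G).map (MulAut.conj g⁻¹).toMonoidHom) = (P : Subgroup G) := by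
        refine eq_of_le_of_card_ge ?_ (le_of_eq (card_map_of_injective (MulAut.conj g⁻¹).injective).symm)
        rw [hP, MonoidHom.map_zpowers, zpowers_le]
        simpa [hP] using h3
      exact mem_normalizer_iff_map_conj_eq.2 hmap
    exact QuotientGroup.eq.2 (by simpa using h4)
  have hsemi : ∀ z : G ⧸ N, z ≠ p0 → ∀ i : ℕ, x ^ i • z = z → 7 ∣ i := by
    intro z hz i hi
    by_contra hd
    obtain ⟨m, hm⟩ := exists_pow_eq_self_of_coprime (x := x) (n := i) (by
      rw [hx]; exact ((Nat.Prime.coprime_iff_not_dvd (by norm_num)).2 hd).symm)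
    refine hz (hxfix z ?_)
    rw [← hm]
    clear hm
    induction m with
    | zero => simp
    | succ m ih => rw [pow_succ, mul_smul, hi, ih]
  have hinj : ∀ z : G ⧸ N, z ≠ p0 → Function.Injective fun i : Fin 7 => x ^ (i : ℕ) • z := by
    intro z hz i j hij
    by_contra hne'
    rcases Nat.lt_or_lt_of_ne (Fin.val_ne_of_ne hne') with h | h
    · have h1 : x ^ (i : ℕ) • z = x ^ (i : ℕ) • (x ^ ((j : ℕ) - i) • z) := by
        rw [smul_smul, ← pow_add, Nat.add_sub_cancel' h.le]; exact hij
      have := hsemi z hz _ (smul_left_cancel _ h1).symm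
      omega
    · have h1 : x ^ (j : ℕ) • z = x ^ (j : ℕ) • (x ^ ((i : ℕ) - j) • z) := by
        rw [smul_smul, ← pow_add, Nat.add_sub_cancel' h.le]; exact hij.symm
      have := hsemi z hz _ (smul_left_cancel _ h1).symm
      omega
  let inO : G ⧸ N → G ⧸ N → Prop := fun p z => ∃ i : ℕ, x ^ i • p = z
  have hpow : ∀ c : G, Commute c x → ∀ p : G ⧸ N, inO p (c • p) → ∀ z, inO p z → c ^ 7 • z = z := by
    rintro c hcx p ⟨i, hi⟩ z ⟨j, rfl⟩
    have hk : ∀ k : ℕ, c ^ k • p = x ^ (i * k) • p := by
      intro k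
      induction k with
      | zero => simp
      | succ k ih =>
        rw [pow_succ', mul_smul, ih, smul_smul, (hcx.pow_right (i * k)).eq, mul_smul, ← hi, smul_smul,
          ← pow_add, show i * k + i = i * (k + 1) by ring]
    rw [smul_smul, ((hcx.pow_left 7).pow_right j).eq, mul_smul, hk, mul_comm i, pow_mul, ← hx,
      pow_orderOf_eq_one, one_pow, one_smul]
  have hfaith : ∀ c : G, (∀ z : G ⧸ N, c • z = z) → c = 1 := fun c h =>
    Small.toPermHom_injective hne (Equiv.ext fun z => by rw [map_one]; exact h z)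
  haveI : Fintype (G ⧸ N) := Fintype.ofFinite _
  have hcardΩ : Fintype.card (G ⧸ N) = N.index := by rw [← Nat.card_eq_fintype_card]; rfl
  obtain ⟨p1, hp1⟩ : ∃ p1, p1 ≠ p0 := Fintype.exists_ne_of_one_lt_card (by omega) p0
  have hy7 : y ^ 7 ≠ 1 := fun e => by
    have h := orderOf_dvd_of_pow_eq_one e
    rcases hy with e' | e' <;> rw [e'] at h <;> norm_num at h
  have hyN : y • p0 = p0 := hfix0 y (hCN hyC)
  rcases hmem with hn | hn | hn | hn
  · have hall : ∀ z, z = p0 ∨ inO p1 z := by
      classical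
      let f : Option (Fin 7) → G ⧸ N := fun o => o.elim p0 fun i => x ^ (i : ℕ) • p1
      have hf : Function.Injective f := by
        rintro (_ | i) (_ | j) h
        · rfl
        · refine absurd ?_ hp1
          refine smul_left_cancel (x ^ (j : ℕ)) ?_
          rw [hfix0 _ (pow_mem (le_normalizer hxP) _)]; exact h.symm
        · refine absurd ?_ hp1
          refine smul_left_cancel (x ^ (i : ℕ)) ?_
          rw [hfix0 _ (pow_mem (le_normalizer hxP) _)]; exact h
        · exact congrArg some (hinj p1 hp1 h)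
      intro z
      obtain ⟨o, rfl⟩ := ((Fintype.bijective_iff_injective_and_card f).2 ⟨hf, by simp [hcardΩ, hn]⟩).2 z
      rcases o with _ | i
      exacts [Or.inl rfl, Or.inr ⟨i, rfl⟩]
    refine hy7 (hfaith _ fun z => ?_)
    have h1 : inO p1 (y • p1) := (hall _).resolve_left fun e => hp1 (smul_left_cancel y (e.trans hyN.symm))
    rcases hall z with rfl | hz
    · exact hfix0 _ (pow_mem (hCN hyC) 7)
    · exact hpow y hc p1 h1 z hz
  · classical
    obtain ⟨p2, hp20, hp21⟩ : ∃ p2, p2 ≠ p0 ∧ ¬ inO p1 p2 := by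
      by_contra hno
      push Not at hno
      let f : Option (Fin 7) → G ⧸ N := fun o => o.elim p0 fun i => x ^ (i : ℕ) • p1
      have hf : Function.Surjective f := fun z => by
        by_cases hz : z = p0
        · exact ⟨none, hz.symm⟩
        · obtain ⟨i, hi⟩ := hno z hz
          refine ⟨some ⟨i % 7, Nat.mod_lt _ (by norm_num)⟩, ?_⟩
          show x ^ (i % 7) • p1 = z
          rw [← hi, ← hx, pow_mod_orderOf]
      have := Fintype.card_le_of_surjective f hf
      simp [hcardΩ, hn] at this
    have hall : ∀ z, z = p0 ∨ inO p1 z ∨ inO p2 z := by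
      let f : Option (Fin 7 ⊕ Fin 7) → G ⧸ N := fun o => o.elim p0
        (Sum.elim (fun i => x ^ (i : ℕ) • p1) (fun i => x ^ (i : ℕ) • p2))
      have h0 : ∀ (i : ℕ) (p : G ⧸ N), x ^ i • p = p0 → p = p0 := fun i p h =>
        smul_left_cancel (x ^ i) (h.trans (hfix0 _ (pow_mem (le_normalizer hxP) _)).symm)
      have h12 : ∀ i j : Fin 7, x ^ (i : ℕ) • p1 ≠ x ^ (j : ℕ) • p2 := fun i j h => hp21
        ⟨(i : ℕ) + (7 - j), by
          rw [add_comm, pow_add, mul_smul, h, smul_smul, ← pow_add, show 7 - (j : ℕ) + j = 7 by omega, ← hx,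
            pow_orderOf_eq_one, one_smul]⟩
      have hf : Function.Injective f := by
        rintro (_ | i | i) (_ | j | j) h
        · rfl
        · exact absurd (h0 _ _ h.symm) hp1
        · exact absurd (h0 _ _ h.symm) hp20
        · exact absurd (h0 _ _ h) hp1
        · exact congrArg (fun a => some (Sum.inl a)) (hinj p1 hp1 h)
        · exact absurd h (h12 i j)
        · exact absurd (h0 _ _ h) hp20
        · exact absurd h.symm (h12 j i)
        · exact congrArg (fun a => some (Sum.inr a)) (hinj p2 hp20 h)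
      intro z
      obtain ⟨o, rfl⟩ := ((Fintype.bijective_iff_injective_and_card f).2 ⟨hf, by simp [hcardΩ, hn]⟩).2 z
      rcases o with _ | i | i
      exacts [Or.inl rfl, Or.inr (Or.inl ⟨i, rfl⟩), Or.inr (Or.inr ⟨i, rfl⟩)]
    have hkey : ∀ c ∈ C, c ^ 7 ≠ 1 → inO p2 (c • p1) ∧ inO p1 (c • p2) := by
      intro c hcC hc7
      have hcx : Commute c x := (mem_centralizer_iff.1 hcC x hxP).symm
      have hcN : c • p0 = p0 := hfix0 c (hCN hcC)
      have hne1 : c • p1 ≠ p0 := fun e => hp1 (smul_left_cancel c (e.trans hcN.symm))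
      have hne2 : c • p2 ≠ p0 := fun e => hp20 (smul_left_cancel c (e.trans hcN.symm))
      rcases (hall _).resolve_left hne1 with h1 | h1
      · exfalso
        have h2 : inO p2 (c • p2) := ((hall _).resolve_left hne2).resolve_left fun ⟨j, hj⟩ => hp21 (by
          obtain ⟨i, hi⟩ := h1
          obtain ⟨m, hm⟩ : ∃ m : ℕ, x ^ j • p1 = x ^ m • (x ^ i • p1) := ⟨j + (7 * i - i), by
            rw [smul_smul, ← pow_add, show j + (7 * i - i) + i = j + 7 * i by omega, pow_add, pow_mul, ← hx,
              pow_orderOf_eq_one, one_pow, mul_one]⟩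
          rw [hj, hi, smul_smul, ← (hcx.pow_right m).eq, mul_smul] at hm
          exact ⟨m, (smul_left_cancel c hm).symm⟩)
        refine hc7 (hfaith _ fun z => ?_)
        rcases hall z with rfl | hz | hz
        · exact hfix0 _ (pow_mem (hCN hcC) 7)
        · exact hpow c hcx p1 h1 z hz
        · exact hpow c hcx p2 h2 z hz
      · refine ⟨h1, ((hall _).resolve_left hne2).resolve_right fun ⟨j, hj⟩ => ?_⟩
        obtain ⟨i, hi⟩ := h1
        obtain ⟨m, hm⟩ : ∃ m : ℕ, x ^ i • p2 = x ^ m • (x ^ j • p2) := ⟨i + (7 * j - j), by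
          rw [smul_smul, ← pow_add, show i + (7 * j - j) + j = i + 7 * j by omega, pow_add, pow_mul, ← hx,
            pow_orderOf_eq_one, one_pow, mul_one]⟩
        rw [hj, hi, smul_smul, ← (hcx.pow_right m).eq, mul_smul] at hm
        exact hp21 ⟨7 * m - m, by
          rw [smul_left_cancel c hm, smul_smul, ← pow_add, show 7 * m - m + m = 7 * m by omega, pow_mul, ← hx,
            pow_orderOf_eq_one, one_pow, one_smul]⟩
    have hcomp : ∀ c ∈ C, ∀ d ∈ C, c ^ 7 ≠ 1 → d ^ 7 ≠ 1 → (d * c) ^ 7 = 1 := by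
      intro c hc' d hd' h7c h7d
      by_contra h7
      obtain ⟨i, hi⟩ := (hkey c hc' h7c).1
      obtain ⟨j, hj⟩ := (hkey d hd' h7d).2
      obtain ⟨l, hl⟩ := (hkey _ (mul_mem hd' hc') h7).1
      have hdx : Commute d x := (mem_centralizer_iff.1 hd' x hxP).symm
      rw [mul_smul, ← hi, smul_smul, (hdx.pow_right i).eq, mul_smul, ← hj, smul_smul, ← pow_add] at hl
      exact hp21 ⟨7 * l - l + (i + j), by
        rw [pow_add, mul_smul, ← hl, smul_smul, ← pow_add, show 7 * l - l + l = 7 * l by omega, pow_mul, ← hx,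
          pow_orderOf_eq_one, one_pow, one_smul]⟩
    rcases hy with hy2 | hy3
    · rw [hn] at hNi
      have h4C : 2 ^ 2 ∣ Nat.card C := by
        have h28 : 168 ∣ Nat.card C * 6 := (show Nat.card N = 168 by omega) ▸ hCc ▸ Nat.mul_dvd_mul_left _ hr
        omega
      haveI := Fact.mk Nat.prime_two
      obtain ⟨T, hT⟩ := Sylow.exists_subgroup_card_pow_prime 2 h4C
      haveI : Fintype T := Fintype.ofFinite T
      obtain ⟨c, hc1⟩ : ∃ c : T, c ≠ 1 := Fintype.exists_ne_of_one_lt_card (by
        rw [← Nat.card_eq_fintype_card, hT]; norm_num) 1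
      obtain ⟨d, hd⟩ : ∃ d : T, d ∉ ({1, c⁻¹} : Finset T) := by
        by_contra hno
        push Not at hno
        have h := Finset.card_le_card (s := (Finset.univ : Finset T)) (fun d _ => hno d)
        rw [Finset.card_univ, ← Nat.card_eq_fintype_card, hT] at h
        have := h.trans Finset.card_le_two
        norm_num at this
      simp only [Finset.mem_insert, Finset.mem_singleton, not_or] at hd
      have h7 : ∀ e : T, e ≠ 1 → ((e : C) : G) ^ 7 ≠ 1 := fun e he h => he (by
        have h' : e ^ 7 = 1 := Subtype.ext (Subtype.ext h)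
        have h2 : e ^ 4 = 1 := by rw [show (4 : ℕ) = 2 ^ 2 by norm_num, ← hT, pow_card_eq_one']
        simpa using pow_gcd_eq_one.2 ⟨h', h2⟩)
      exact h7 (d * c) (fun e => hd.2 (eq_inv_of_mul_eq_one_left e))
        (hcomp _ (c : C).2 _ (d : C).2 (h7 c hc1) (h7 d hd.1))
    · have h2 : (y * y) ^ 7 = 1 := hcomp y hyC y hyC hy7 hy7
      rw [← pow_two, ← pow_mul] at h2
      have := orderOf_dvd_of_pow_eq_one h2
      rw [hy3] at this
      norm_num at this
  · rw [hn] at hNi
    have hN70 : Nat.card N = 70 := by omega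
    rw [hN70] at hCc
    have : C.relIndex N ∈ Nat.divisors 6 := Nat.mem_divisors.2 ⟨hr, by norm_num⟩
    rw [show Nat.divisors 6 = {1, 2, 3, 6} by decide] at this
    simp only [Finset.mem_insert, Finset.mem_singleton] at this
    rcases this with e | e | e | e
    · exact hCN' e
    · rw [e] at hCc
      rw [show Nat.card C = 35 by omega] at hyd
      rcases hy with e' | e' <;> rw [e'] at hyd <;> norm_num at hyd
    · rw [e] at hCc; omega
    · rw [e] at hCc; omega
  · rw [hn] at hNi
    have hN21 : Nat.card N = 21 := by omega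
    rw [hN21] at hCc
    have : C.relIndex N ∈ Nat.divisors 6 := Nat.mem_divisors.2 ⟨hr, by norm_num⟩
    rw [show Nat.divisors 6 = {1, 2, 3, 6} by decide] at this
    simp only [Finset.mem_insert, Finset.mem_singleton] at this
    rcases this with e | e | e | e
    · exact hCN' e
    · rw [e] at hCc; omega
    · rw [e] at hCc
      rw [show Nat.card C = 7 by omega] at hyd
      rcases hy with e' | e' <;> rw [e'] at hyd <;> norm_num at hyd
    · rw [e] at hCc; omega

end Ctx

end Cfsg.Agent.A7Recog
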