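import Cfsg.Agent.Lib.A7Recog.Sylow
import Mathlib.GroupTheory.GroupAction.Quotient

/-!
Sylow subgroups for the prime three in a simple group of order 2520.
-/

set_option autoImplicit false

namespace Cfsg.Agent.A7Recog

open Subgroup

variable {G : Type*} [Group G]

/-- A conjugate subgroup. -/
def cj (g : G) (H : Subgroup G) : Subgroup G := H.map (MulAut.conj g).toMonoidHom

theorem mem_cj {g x : G} {H : Subgroup G} : x ∈ cj g H ↔ g⁻¹ * x * g ∈ H := by
  constructor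
  · rintro ⟨y, hy, rfl⟩
    simpa [mul_assoc] using hy
  · intro h
    exact ⟨_, h, by simp [mul_assoc]⟩

theorem card_cj (g : G) (H : Subgroup G) : Nat.card (cj g H : Subgroup G) = Nat.card H :=
  card_map_of_injective (MulAut.conj g).injective

theorem cj_mul (g h : G) (H : Subgroup G) : cj g (cj h H) = cj (g * h) H := by
  ext x; simp [mem_cj, mul_assoc]

theorem cj_one (H : Subgroup G) : cj 1 H = H := by ext x; simp [mem_cj]

theorem cj_inj {g : G} {H K : Subgroup G} (h : cj g H = cj g K) : H = K := by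
  rw [← cj_one H, ← cj_one K, ← inv_mul_cancel g, ← cj_mul, ← cj_mul, h]

theorem cj_mono {g : G} {H K : Subgroup G} (h : H ≤ K) : cj g H ≤ cj g K := map_mono h

theorem cj_eq_iff {g : G} {H : Subgroup G} : cj g H = H ↔ g ∈ normalizer (H : Set G) :=
  mem_normalizer_iff_map_conj_eq.symm

theorem comm_of_le_cent {H : Subgroup G} {a b : G} (ha : a ∈ centralizer (H : Set G)) (hb : b ∈ H) :
    a * b = b * a := (mem_centralizer_iff.1 ha b hb).symm

theorem card_le_eq [Finite G] {H K : Subgroup G} (h : H ≤ K) (hc : Nat.card K ≤ Nat.card H) : H = K :=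
  eq_of_le_of_card_ge h hc

theorem mem_three {W : Subgroup G} (hW : Nat.card W = 3) {w x : G} (hw : w ∈ W) (hw1 : w ≠ 1) (hx : x ∈ W) :
    x = 1 ∨ x = w ∨ x = w⁻¹ := by
  haveI := Fact.mk Nat.prime_three
  haveI : Finite W := Nat.finite_of_card_ne_zero (by rw [hW]; norm_num)
  have h := mem_zpowers_of_prime_card (p := 3) hW (g := ⟨w, hw⟩) (g' := ⟨x, hx⟩) (fun e => hw1 (congrArg Subtype.val e))
  rw [← mem_powers_iff_mem_zpowers, Submonoid.mem_powers_iff] at h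
  obtain ⟨k, hk⟩ := h
  have hk' : w ^ k = x := congrArg Subtype.val hk
  have h3 : w ^ 3 = 1 := by
    have := congrArg Subtype.val (pow_card_eq_one' (x := (⟨w, hw⟩ : W)))
    rwa [hW] at this
  rw [← pow_mod_orderOf, orderOf_eq_prime h3 hw1] at hk'
  have : k % 3 = 0 ∨ k % 3 = 1 ∨ k % 3 = 2 := by omega
  rcases this with e | e | e <;> rw [e] at hk'
  · exact Or.inl (by simpa using hk'.symm)
  · exact Or.inr (Or.inl (by simpa using hk'.symm))
  · exact Or.inr (Or.inr (by rw [← hk']; exact eq_inv_of_mul_eq_one_left (by rw [← pow_succ]; exact h3)))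

theorem exists_gen {W : Subgroup G} (hW : Nat.card W = 3) : ∃ w ∈ W, w ≠ 1 ∧ orderOf w = 3 := by
  haveI := Fact.mk Nat.prime_three
  haveI : Finite W := Nat.finite_of_card_ne_zero (by rw [hW]; norm_num)
  obtain ⟨w, hw⟩ := exists_prime_orderOf_dvd_card' (G := W) 3 (by rw [hW])
  have h : orderOf (w : G) = 3 := by rw [orderOf_coe]; exact hw
  exact ⟨w, w.2, fun e => by rw [e, orderOf_one] at h; norm_num at h, h⟩

theorem three_le {W H : Subgroup G} (hW : Nat.card W = 3) {w : G} (hw : w ∈ W) (hw1 : w ≠ 1) (hwH : w ∈ H) :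
    W ≤ H := fun x hx => by
  rcases mem_three hW hw hw1 hx with rfl | rfl | rfl
  exacts [one_mem _, hwH, inv_mem hwH]

theorem three_eq [Finite G] {W W' : Subgroup G} (hW : Nat.card W = 3) (hW' : Nat.card W' = 3) {w : G}
    (hw : w ∈ W) (hw1 : w ≠ 1) (hw' : w ∈ W') : W = W' :=
  eq_of_le_of_card_ge (three_le hW hw hw1 hw') (by rw [hW, hW'])

theorem zpowers_card_three [Finite G] {k : G} (hk : orderOf k = 3) : Nat.card (zpowers k) = 3 := by
  rw [Nat.card_zpowers, hk]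

namespace Ctx

variable [Finite G] (K : Ctx G)
include K

theorem nine_sylow {R : Subgroup G} (h : Nat.card R = 9) : ∃ P : Sylow 3 G, (P : Subgroup G) = R := by
  haveI := Fact.mk Nat.prime_three
  obtain ⟨P, hP⟩ := (IsPGroup.of_card (p := 3) (n := 2) (G := R) h).exists_le_sylow
  refine ⟨P, (eq_of_le_of_card_ge hP ?_).symm⟩
  rw [K.sylow_card P 2 (by norm_num) (by norm_num), h]
  norm_num

theorem sylow_nine (P : Sylow 3 G) : Nat.card (P : Subgroup G) = 9 := by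
  haveI := Fact.mk Nat.prime_three
  rw [K.sylow_card P 2 (by norm_num) (by norm_num)]
  norm_num

omit K in
theorem nine_comm {R : Subgroup G} (h : Nat.card R = 9) {a b : G} (ha : a ∈ R) (hb : b ∈ R) : a * b = b * a := by
  haveI := Fact.mk Nat.prime_three
  exact congrArg Subtype.val (IsPGroup.commutative_of_card_eq_prime_sq (p := 3) (G := R) h ⟨a, ha⟩ ⟨b, hb⟩)

omit K in
theorem nine_le_cent {R : Subgroup G} (h : Nat.card R = 9) {W : Subgroup G} (hW : W ≤ R) :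
    R ≤ centralizer (W : Set G) := fun _ hr =>
  mem_centralizer_iff.2 fun _ hw => nine_comm h (hW hw) hr

theorem five_seven_cent {R : Subgroup G} (h : Nat.card R = 9) {x : G} {q : ℕ} (hq : q = 5 ∨ q = 7)
    (hx : orderOf x = q) (hN : x ∈ normalizer (R : Set G)) : R ≤ centralizer ({x} : Set G) := by
  haveI : Fact q.Prime := ⟨by rcases hq with rfl | rfl <;> norm_num⟩
  have h1 := modEq_fix (p := q) (k := 1) (by rw [hx, pow_one]) hN
  have h2 : Nat.card (R ⊓ centralizer ({x} : Set G) : Subgroup G) ∣ 9 := h ▸ card_dvd_of_le inf_le_left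
  have h3 : Nat.card (R ⊓ centralizer ({x} : Set G) : Subgroup G) ∈ Nat.divisors 9 :=
    Nat.mem_divisors.2 ⟨h2, by norm_num⟩
  rw [show Nat.divisors 9 = {1, 3, 9} by decide] at h3
  simp only [Finset.mem_insert, Finset.mem_singleton] at h3
  rw [h] at h1
  have h9 : Nat.card (R ⊓ centralizer ({x} : Set G) : Subgroup G) = 9 := by
    unfold Nat.ModEq at h1
    rcases h3 with e | e | e <;> rw [e] at h1 ⊢ <;> rcases hq with rfl | rfl <;> norm_num at h1
  exact inf_eq_left.1 (eq_of_le_of_card_ge inf_le_left (by rw [h9, h]))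

theorem no5_cent {R : Subgroup G} (h : Nat.card R = 9) {x : G} (hx : orderOf x = 5) :
    ¬ R ≤ centralizer ({x} : Set G) := by
  intro hR
  haveI := K.simple
  haveI := Fact.mk (by norm_num : Nat.Prime 5)
  obtain ⟨Q, hQ⟩ := (IsPGroup.of_card (p := 5) (n := 1) (G := zpowers x)
    (by rw [Nat.card_zpowers, hx, pow_one])).exists_le_sylow
  have hQ5 : Nat.card (Q : Subgroup G) = 5 := by
    rw [K.sylow_card Q 1 (by norm_num) (by norm_num), pow_one]
  have hQx : zpowers x = (Q : Subgroup G) := eq_of_le_of_card_ge hQ (by rw [hQ5, Nat.card_zpowers, hx])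
  set N := normalizer ((Q : Subgroup G) : Set G) with hN
  set C := centralizer ((Q : Subgroup G) : Set G) with hC
  have hCN : C ≤ N := centralizer_le_normalizer _
  have hRC : R ≤ C := fun r hr => by
    rw [hC, ← hQx]
    refine mem_centralizer_iff.2 fun z hz => ?_
    obtain ⟨i, rfl⟩ := mem_zpowers_iff.1 hz
    exact ((show Commute r x from mem_centralizer_singleton_iff.1 (hR hr)).zpow_right i).symm.eq
  have hQC : (Q : Subgroup G) ≤ C := by
    rw [hC, ← hQx]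
    refine zpowers_le.2 (mem_centralizer_iff.2 fun z hz => ?_)
    obtain ⟨i, rfl⟩ := mem_zpowers_iff.1 hz
    exact ((Commute.refl x).zpow_left i).eq
  have h45 : 45 ∣ Nat.card C := by
    have h9 := h ▸ card_dvd_of_le hRC
    have h5 := hQ5 ▸ card_dvd_of_le hQC
    omega
  have hr := relIndex_dvd_mulAut (Q : Subgroup G)
  haveI : IsCyclic (Q : Subgroup G) := isCyclic_of_prime_card hQ5
  rw [IsCyclic.card_mulAut, hQ5, Nat.totient_prime (by norm_num)] at hr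
  change C.relIndex N ∣ 4 at hr
  have hCc := card_mul_relIndex hCN
  have hne : N ≠ ⊤ := fun e => by
    rcases (normalizer_eq_top_iff.1 e).eq_bot_or_eq_top with e' | e'
    · rw [e', card_bot] at hQ5
      norm_num at hQ5
    · rw [e', card_top, K.card] at hQ5
      norm_num at hQ5
  have h8 := K.eight_le hne
  have hn1 : N.index % 5 = 1 := by
    have := card_sylow_modEq_one 5 G
    rw [Q.card_eq_index_normalizer] at this
    exact this
  have hNi : Nat.card N * N.index = 2520 := by rw [card_mul_index, K.card]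
  obtain ⟨c, hc⟩ := h45
  rw [hc] at hCc
  have h56 : N.index ∣ 56 := ⟨c * C.relIndex N, by rw [← hCc] at hNi; linarith⟩
  have hmem : N.index ∈ Nat.divisors 56 := Nat.mem_divisors.2 ⟨h56, by norm_num⟩
  have key : ∀ d ∈ Nat.divisors 56, d % 5 = 1 → 8 ≤ d → d = 56 := by decide +kernel
  rw [key _ hmem hn1 h8] at hNi
  refine K.burnside Q (by norm_num) (relIndex_eq_one.1 ?_)
  change C.relIndex N = 1
  have : c * C.relIndex N = 1 := by rw [← hCc] at hNi; linarith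
  exact Nat.eq_one_of_mul_eq_one_left this

theorem norm_card {R : Subgroup G} (h : Nat.card R = 9) : Nat.card (normalizer (R : Set G)) = 36 := by
  haveI := Fact.mk Nat.prime_three
  obtain ⟨P, rfl⟩ := K.nine_sylow h
  set N := normalizer ((P : Subgroup G) : Set G) with hN
  have h1 : N.index % 3 = 1 := by
    have := card_sylow_modEq_one 3 G
    rw [P.card_eq_index_normalizer] at this
    exact this
  have h2 : 9 ∣ Nat.card N := h ▸ card_dvd_of_le le_normalizer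
  have hno : ∀ q, q = 5 ∨ q = 7 → ¬ q ∣ Nat.card N := by
    intro q hq hd
    haveI : Fact q.Prime := ⟨by rcases hq with rfl | rfl <;> norm_num⟩
    obtain ⟨x, hx⟩ := exists_prime_orderOf_dvd_card' (G := N) q hd
    have hx' : orderOf (x : G) = q := by rw [orderOf_coe]; exact hx
    have hc := K.five_seven_cent h hq hx' x.2
    rcases hq with rfl | rfl
    · exact K.no5_cent h hx' hc
    · obtain ⟨r, hr⟩ := exists_prime_orderOf_dvd_card' (G := (P : Subgroup G)) 3 (by rw [h]; norm_num)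
      exact K.cent7 hx' (mem_centralizer_singleton_iff.1 (hc r.2)) (Or.inr (by rw [orderOf_coe]; exact hr))
  have hNi : Nat.card N * N.index = 2520 := by rw [card_mul_index, K.card]
  have hmem : Nat.card N ∈ Nat.divisors 2520 := Nat.mem_divisors.2 ⟨⟨_, hNi.symm⟩, by norm_num⟩
  have key : ∀ d ∈ Nat.divisors 2520, 9 ∣ d → ¬ 5 ∣ d → ¬ 7 ∣ d → 2520 / d % 3 = 1 → d = 9 ∨ d = 36 := by
    decide +kernel
  rcases key _ hmem h2 (hno 5 (Or.inl rfl)) (hno 7 (Or.inr rfl))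
    (by rw [← hNi, Nat.mul_div_cancel_left _ Nat.card_pos]; exact h1) with e | e
  · exfalso
    refine K.burnside P (by norm_num) fun n hn => ?_
    have hPN : (P : Subgroup G) = N := eq_of_le_of_card_ge le_normalizer (le_of_eq (e.trans h.symm))
    exact mem_centralizer_iff.2 fun z hz => nine_comm h hz (hPN ▸ hn)
  · exact e

theorem sylow_count : Nat.card (Sylow 3 G) = 70 := by
  haveI := Fact.mk Nat.prime_three
  obtain ⟨P⟩ := (inferInstance : Nonempty (Sylow 3 G))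
  have h1 := (normalizer ((P : Subgroup G) : Set G)).card_mul_index
  rw [K.norm_card (K.sylow_nine P), K.card] at h1
  have h2 : (normalizer ((P : Subgroup G) : Set G)).index = 70 := by omega
  rw [P.card_eq_index_normalizer]
  exact h2

theorem nine_conj {R R' : Subgroup G} (h : Nat.card R = 9) (h' : Nat.card R' = 9) : ∃ g, cj g R = R' := by
  haveI := Fact.mk Nat.prime_three
  obtain ⟨P, rfl⟩ := K.nine_sylow h
  obtain ⟨Q, rfl⟩ := K.nine_sylow h'
  obtain ⟨g, hg⟩ := MulAction.exists_smul_eq G P Q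
  exact ⟨g, by rw [← hg, Sylow.coe_subgroup_smul]; rfl⟩

theorem le_of_normalizes {R : Subgroup G} (h : Nat.card R = 9) {S : Subgroup G} (hS : IsPGroup 3 S)
    (hSN : S ≤ normalizer (R : Set G)) : S ≤ R := by
  haveI := Fact.mk Nat.prime_three
  obtain ⟨P, rfl⟩ := K.nine_sylow h
  exact le_sup_left.trans (P.is_maximal' (hS.to_sup_of_normal_right' P.isPGroup' hSN) le_sup_right).le

/-- Some other Sylow subgroup meets the given one nontrivially. -/
theorem exists_meet {R : Subgroup G} (h : Nat.card R = 9) :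
    ∃ R' : Subgroup G, Nat.card R' = 9 ∧ R' ≠ R ∧ Nat.card (R ⊓ R' : Subgroup G) = 3 := by
  classical
  haveI := Fact.mk Nat.prime_three
  by_contra hno
  obtain ⟨P, hP⟩ := K.nine_sylow h
  let X : SubMulAction R (Sylow 3 G) :=
    { carrier := {Q | Q ≠ P}
      smul_mem' := fun r Q hQ e => hQ (by
        have hr : r • P = P := Sylow.smul_eq_iff_mem_normalizer.2 (le_normalizer (hP.symm ▸ r.2))
        exact smul_left_cancel r (e.trans hr.symm)) }
  have hfree : ∀ Q : X, MulAction.stabilizer R Q = ⊥ := by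
    intro Q
    rw [eq_bot_iff]
    intro r hr
    have hr' : (r : G) • (Q : Sylow 3 G) = Q := congrArg Subtype.val (MulAction.mem_stabilizer_iff.1 hr)
    have hrN : (r : G) ∈ normalizer (((Q : Sylow 3 G) : Subgroup G) : Set G) :=
      Sylow.smul_eq_iff_mem_normalizer.1 hr'
    have hrQ : (r : G) ∈ ((Q : Sylow 3 G) : Subgroup G) := by
      refine K.le_of_normalizes (K.sylow_nine _) ?_ (zpowers_le.2 hrN) (mem_zpowers _)
      exact (IsPGroup.of_card (n := 2) (p := 3) (G := R) h).to_le (zpowers_le.2 r.2)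
    rw [Subgroup.mem_bot]
    by_contra hr1
    refine hno ⟨_, K.sylow_nine (Q : Sylow 3 G), fun e => Q.2 (Sylow.ext (e.trans hP.symm)), ?_⟩
    set I := R ⊓ ((Q : Sylow 3 G) : Subgroup G) with hI
    have hI9 : Nat.card I ∣ 9 := h ▸ card_dvd_of_le inf_le_left
    have hmem : Nat.card I ∈ Nat.divisors 9 := Nat.mem_divisors.2 ⟨hI9, by norm_num⟩
    rw [show Nat.divisors 9 = {1, 3, 9} by decide] at hmem
    simp only [Finset.mem_insert, Finset.mem_singleton] at hmem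
    rcases hmem with e | e | e
    · exfalso
      have : (r : G) ∈ I := ⟨r.2, hrQ⟩
      rw [card_eq_one.1 e, Subgroup.mem_bot] at this
      exact hr1 (Subtype.ext this)
    · exact e
    · exfalso
      have h1 : I = R := eq_of_le_of_card_ge inf_le_left (by rw [e, h])
      have h2 : R = ((Q : Sylow 3 G) : Subgroup G) :=
        eq_of_le_of_card_ge (inf_eq_left.1 h1) (by rw [K.sylow_nine, h])
      exact Q.2 (Sylow.ext (h2.symm.trans hP.symm))
  have hX : Nat.card X = 69 := by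
    have h1 : Nat.card X = ({Q : Sylow 3 G | Q ≠ P} : Set (Sylow 3 G)).ncard := Nat.card_coe_set_eq _
    rw [h1, show {Q : Sylow 3 G | Q ≠ P} = ({P} : Set (Sylow 3 G))ᶜ from rfl, Set.ncard_compl, Set.ncard_singleton,
      K.sylow_count]
  have := Nat.card_congr (MulAction.selfEquivOrbitsQuotientProd hfree)
  rw [Nat.card_prod, h, hX] at this
  omega

/-- A normalising element inverts the Sylow subgroup. -/
theorem exists_invert {R : Subgroup G} (h : Nat.card R = 9) :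
    ∃ g ∈ normalizer (R : Set G), ∀ u ∈ R, g * u * g⁻¹ = u⁻¹ := by
  classical
  haveI := Fact.mk Nat.prime_three
  haveI := K.simple
  obtain ⟨P, rfl⟩ := K.nine_sylow h
  set N := normalizer ((P : Subgroup G) : Set G) with hNdef
  set R := (P : Subgroup G) with hR
  haveI : IsMulCommutative R := ⟨⟨fun a b => Subtype.ext (nine_comm h a.2 b.2)⟩⟩
  haveI : (R.subgroupOf N).Normal := normal_in_normalizer
  have hQ : Nat.card (N ⧸ R.subgroupOf N) = 4 := by
    have := (R.subgroupOf N).card_eq_card_quotient_mul_card_subgroup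
    rw [Nat.card_congr (subgroupOfEquivOfLe le_normalizer).toEquiv, h, K.norm_card h] at this
    omega
  haveI := Fact.mk Nat.prime_two
  have hcomm := IsPGroup.commutative_of_card_eq_prime_sq (p := 2) (G := N ⧸ R.subgroupOf N) hQ
  have hmemR : ∀ a b : G, a ∈ N → b ∈ N → (b * a)⁻¹ * (a * b) ∈ R := fun a b ha hb => by
    have h1 : (QuotientGroup.mk ((⟨b, hb⟩ : N) * ⟨a, ha⟩) : N ⧸ R.subgroupOf N) =
        QuotientGroup.mk ((⟨a, ha⟩ : N) * ⟨b, hb⟩) := by
      rw [QuotientGroup.mk_mul, QuotientGroup.mk_mul]; exact hcomm _ _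
    simpa [mem_subgroupOf] using QuotientGroup.eq.1 h1
  have hc : ∀ r ∈ R, ∀ u ∈ R, r * u * r⁻¹ = u := fun r hr u hu => by
    rw [nine_comm h hr hu, mul_inv_cancel_right]
  have hfour : ∀ a ∈ N, a * a * a * a ∈ R := fun a ha => by
    have h1 : (QuotientGroup.mk (⟨a, ha⟩ : N) : N ⧸ R.subgroupOf N) ^ 4 = 1 := by
      rw [← hQ]; exact pow_card_eq_one'
    rw [← QuotientGroup.mk_pow, QuotientGroup.eq_one_iff, mem_subgroupOf] at h1
    simpa [pow_succ] using h1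
  have hconj : ∀ a ∈ N, ∀ u ∈ R, a * u * a⁻¹ ∈ R := fun a ha u hu => (mem_normalizer_iff.1 ha u).1 hu
  have hswap : ∀ a ∈ N, ∀ b ∈ N, ∀ u ∈ R, a * (b * u * b⁻¹) * a⁻¹ = b * (a * u * a⁻¹) * b⁻¹ :=
    fun a ha b hb u hu => by
      obtain ⟨r, hr, e⟩ : ∃ r ∈ R, a * b = b * a * r := ⟨_, hmemR a b ha hb, by group⟩
      calc a * (b * u * b⁻¹) * a⁻¹ = (a * b) * u * (a * b)⁻¹ := by group
        _ = b * a * (r * u * r⁻¹) * (b * a)⁻¹ := by rw [e]; group
        _ = _ := by rw [hc r hr u hu]; group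
  have hnofix : ∀ u ∈ R, (∀ n ∈ N, n * u * n⁻¹ = u) → u = 1 := fun u hu hfix =>
    OddDown.eq_one_of_central K.hnc P hu fun n hn => mul_inv_eq_iff_eq_mul.1 (hfix n hn)
  obtain ⟨u₀, hu₀, hu₀1⟩ := (R.ne_bot_iff_exists_ne_one.1 (fun e => by
    rw [e, card_bot] at h; norm_num at h)) |> fun ⟨u, hu⟩ => (⟨(u : G), u.2, fun e => hu (Subtype.ext e)⟩ :
      ∃ u ∈ R, u ≠ (1 : G))
  obtain ⟨g₀, hg₀, hg₀u⟩ : ∃ n ∈ N, n * u₀ * n⁻¹ ≠ u₀ := by
    by_contra hno
    push Not at hno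
    exact hu₀1 (hnofix u₀ hu₀ hno)
  obtain ⟨ψ, hψ, hψ2, u₁, hu₁, hψ1⟩ : ∃ ψ ∈ N, (∀ u ∈ R, ψ * (ψ * u * ψ⁻¹) * ψ⁻¹ = u) ∧
      ∃ u₁ ∈ R, ψ * u₁ * ψ⁻¹ ≠ u₁ := by
    by_cases hsq : ∀ u ∈ R, g₀ * g₀ * u * (g₀ * g₀)⁻¹ = u
    · exact ⟨g₀, hg₀, fun u hu => Eq.trans (by group) (hsq u hu), u₀, hu₀, hg₀u⟩
    · push Not at hsq
      obtain ⟨u₁, hu₁, h1⟩ := hsq
      refine ⟨g₀ * g₀, mul_mem hg₀ hg₀, fun u hu => ?_, u₁, hu₁, h1⟩
      calc _ = g₀ * g₀ * g₀ * g₀ * u * (g₀ * g₀ * g₀ * g₀)⁻¹ := by group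
        _ = u := hc _ (hfour g₀ hg₀) u hu
  have hfixmul : ∀ u ∈ R, ψ * (u * (ψ * u * ψ⁻¹)) * ψ⁻¹ = u * (ψ * u * ψ⁻¹) := fun u hu => by
    calc _ = (ψ * u * ψ⁻¹) * (ψ * (ψ * u * ψ⁻¹) * ψ⁻¹) := by group
      _ = (ψ * u * ψ⁻¹) * u := by rw [hψ2 u hu]
      _ = _ := nine_comm h (hconj ψ hψ u hu) hu
  by_cases hF : ∀ u ∈ R, ψ * u * ψ⁻¹ = u → u = 1
  · exact ⟨ψ, hψ, fun u hu => eq_inv_of_mul_eq_one_right
      (hF _ (mul_mem hu (hconj ψ hψ u hu)) (hfixmul u hu))⟩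
  push Not at hF
  obtain ⟨f₀, hf₀, hf₀fix, hf₀1⟩ := hF
  let F : Subgroup G := R ⊓ centralizer ({ψ} : Set G)
  have memF : ∀ u, u ∈ F ↔ u ∈ R ∧ ψ * u * ψ⁻¹ = u := fun u => by
    rw [Subgroup.mem_inf, mem_centralizer_singleton_iff, mul_inv_eq_iff_eq_mul]
    exact and_congr_right fun _ => eq_comm
  let I : Subgroup G :=
    { carrier := {u | u ∈ R ∧ ψ * u * ψ⁻¹ = u⁻¹}
      one_mem' := ⟨one_mem _, by simp⟩
      mul_mem' := fun {a b} ha hb => ⟨mul_mem ha.1 hb.1, by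
        calc ψ * (a * b) * ψ⁻¹ = (ψ * a * ψ⁻¹) * (ψ * b * ψ⁻¹) := by group
          _ = (b * a)⁻¹ := by rw [ha.2, hb.2, mul_inv_rev]
          _ = _ := by rw [nine_comm h ha.1 hb.1]⟩
      inv_mem' := fun {a} ha => ⟨inv_mem ha.1, by
        calc ψ * a⁻¹ * ψ⁻¹ = (ψ * a * ψ⁻¹)⁻¹ := by group
          _ = _ := by rw [ha.2]⟩ }
  have memI : ∀ u, u ∈ I ↔ u ∈ R ∧ ψ * u * ψ⁻¹ = u⁻¹ := fun u => Iff.rfl
  have h9 : ∀ u ∈ R, u ^ 9 = 1 := fun u hu => by
    have := congrArg Subtype.val (pow_card_eq_one' (x := (⟨u, hu⟩ : R)))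
    rwa [h] at this
  have hFI : ∀ u ∈ F, u ∈ I → u = 1 := fun u hu hu' => by
    have h1 : u = u⁻¹ := ((memF u).1 hu).2.symm.trans ((memI u).1 hu').2
    have h2 : u * u = 1 := mul_eq_one_iff_eq_inv.2 h1
    have h3 := h9 u ((memF u).1 hu).1
    rwa [show (9 : ℕ) = 2 * 4 + 1 by norm_num, pow_succ, pow_mul, pow_two, h2, one_pow, one_mul] at h3
  have card3 : ∀ J : Subgroup G, J ≤ R → (∃ u ∈ J, u ≠ (1 : G)) → (∃ u ∈ R, u ∉ J) → Nat.card J = 3 := by
    rintro J hJ ⟨u, hu, hu1⟩ ⟨v, hv, hv'⟩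
    have hmem : Nat.card J ∈ Nat.divisors 9 := Nat.mem_divisors.2 ⟨h ▸ card_dvd_of_le hJ, by norm_num⟩
    rw [show Nat.divisors 9 = {1, 3, 9} by decide] at hmem
    simp only [Finset.mem_insert, Finset.mem_singleton] at hmem
    rcases hmem with e | e | e
    · rw [card_eq_one.1 e, Subgroup.mem_bot] at hu; exact absurd hu hu1
    · exact e
    · exact absurd ((eq_of_le_of_card_ge hJ (by rw [e, h])).symm ▸ hv) hv'
  have hf₀F : f₀ ∈ F := (memF _).2 ⟨hf₀, hf₀fix⟩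
  have hF3 : Nat.card F = 3 := card3 F inf_le_left ⟨f₀, hf₀F, hf₀1⟩
    ⟨u₁, hu₁, fun e => hψ1 ((memF _).1 e).2⟩
  set i₀ := u₁⁻¹ * (ψ * u₁ * ψ⁻¹) with hi₀
  have hi₀1 : i₀ ≠ 1 := fun e => hψ1 (inv_mul_eq_one.1 e).symm
  have hi₀I : i₀ ∈ I := (memI _).2 ⟨mul_mem (inv_mem hu₁) (hconj ψ hψ u₁ hu₁), by
    calc ψ * i₀ * ψ⁻¹ = (ψ * u₁ * ψ⁻¹)⁻¹ * (ψ * (ψ * u₁ * ψ⁻¹) * ψ⁻¹) := by rw [hi₀]; group
      _ = _ := by rw [hψ2 u₁ hu₁, hi₀]; group⟩
  have hI3 : Nat.card I = 3 := card3 I (fun u hu => hu.1) ⟨i₀, hi₀I, hi₀1⟩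
    ⟨f₀, hf₀, fun e => hf₀1 (hFI _ hf₀F e)⟩
  obtain ⟨φ, hφ, hφf⟩ : ∃ n ∈ N, n * f₀ * n⁻¹ ≠ f₀ := by
    by_contra hno
    push Not at hno
    exact hf₀1 (hnofix f₀ hf₀ hno)
  have hφF : φ * f₀ * φ⁻¹ ∈ F := (memF _).2 ⟨hconj φ hφ f₀ hf₀, by
    rw [hswap ψ hψ φ hφ f₀ hf₀, hf₀fix]⟩
  have hφI : φ * i₀ * φ⁻¹ ∈ I := (memI _).2 ⟨hconj φ hφ i₀ hi₀I.1, by
    rw [hswap ψ hψ φ hφ i₀ hi₀I.1, ((memI _).1 hi₀I).2]; group⟩
  have hφf' : φ * f₀ * φ⁻¹ = f₀⁻¹ := by
    rcases mem_three hF3 hf₀F hf₀1 hφF with e | e | e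
    · exact absurd (conj_eq_one_iff.1 e) hf₀1
    · exact absurd e hφf
    · exact e
  -- extend from generators to the whole group
  have hext : ∀ g ∈ N, g * f₀ * g⁻¹ = f₀⁻¹ → g * i₀ * g⁻¹ = i₀⁻¹ → ∀ u ∈ R, g * u * g⁻¹ = u⁻¹ := by
    intro g hg hf hi
    let J : Subgroup G :=
      { carrier := {u | u ∈ R ∧ g * u * g⁻¹ = u⁻¹}
        one_mem' := ⟨one_mem _, by simp⟩
        mul_mem' := fun {a b} ha hb => ⟨mul_mem ha.1 hb.1, by
          calc g * (a * b) * g⁻¹ = (g * a * g⁻¹) * (g * b * g⁻¹) := by group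
            _ = (b * a)⁻¹ := by rw [ha.2, hb.2, mul_inv_rev]
            _ = _ := by rw [nine_comm h ha.1 hb.1]⟩
        inv_mem' := fun {a} ha => ⟨inv_mem ha.1, by
          calc g * a⁻¹ * g⁻¹ = (g * a * g⁻¹)⁻¹ := by group
            _ = _ := by rw [ha.2]⟩ }
    intro u hu
    by_contra hne
    have h3 : Nat.card J = 3 := card3 J (fun x hx => hx.1) ⟨f₀, ⟨hf₀, hf⟩, hf₀1⟩ ⟨u, hu, fun e => hne e.2⟩
    rcases mem_three h3 (w := f₀) ⟨hf₀, hf⟩ hf₀1 (⟨hi₀I.1, hi⟩ : i₀ ∈ J) with e | e | e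
    · exact hi₀1 e
    · exact hi₀1 (hFI _ (e ▸ hf₀F) hi₀I)
    · exact hi₀1 (hFI _ (e ▸ inv_mem hf₀F) hi₀I)
  rcases mem_three hI3 hi₀I hi₀1 hφI with e | e | e
  · exact absurd (conj_eq_one_iff.1 e) hi₀1
  · refine ⟨φ * ψ, mul_mem hφ hψ, hext _ (mul_mem hφ hψ) ?_ ?_⟩
    · calc φ * ψ * f₀ * (φ * ψ)⁻¹ = φ * (ψ * f₀ * ψ⁻¹) * φ⁻¹ := by group
        _ = _ := by rw [hf₀fix, hφf']
    · calc φ * ψ * i₀ * (φ * ψ)⁻¹ = φ * (ψ * i₀ * ψ⁻¹) * φ⁻¹ := by group
        _ = (φ * i₀ * φ⁻¹)⁻¹ := by rw [((memI _).1 hi₀I).2]; group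
        _ = _ := by rw [e]
  · exact ⟨φ, hφ, hext φ hφ hφf' e⟩

end Ctx

end Cfsg.Agent.A7Recog
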